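import Cfsg.Agent.LocalEven61.DihedralPush.Path

/-!
Commutation length of a path and the bound on its window length.
-/

set_option autoImplicit false
set_option linter.style.haveILetI false
set_option linter.unusedSectionVars false

namespace Cfsg.Agent.LocalEven61.DihedralPush

variable {G : Type*} [Group G]

theorem commute_sq_of_relation {u v x c : G} (hu : u * u = 1) (hx : x * x = 1)
    (hxv : Commute x v) (hc : c = u * (x * u * x)) (hcv : Commute c v) :
    Commute x ((u * v) * (u * v)) := by
  have hxu : x * u * x = u * c := by rw [hc, ← mul_assoc u, hu, one_mul]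
  have h1 : u * c * (u * c) = 1 := by
    rw [← hxu, show x * u * x * (x * u * x) = x * u * (x * x) * u * x by group, hx, mul_one,
      mul_assoc x u u, hu, mul_one, hx]
  have hcuc : c * u * c = u := by
    rw [← mul_right_inj u, hu, show u * (c * u * c) = u * c * (u * c) by group, h1]
  have hxv' : x * v * x = v := by rw [hxv.eq, mul_assoc, hx, mul_one]
  have key : x * ((u * v) * (u * v)) * x = (u * v) * (u * v) := by
    calc x * ((u * v) * (u * v)) * x
        = (x * u * x) * (x * v * x) * ((x * u * x) * (x * v * x)) := by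
          rw [show (x * u * x) * (x * v * x) * ((x * u * x) * (x * v * x)) =
            x * u * (x * x) * v * (x * x) * u * (x * x) * v * x by group, hx]
          group
      _ = u * (c * v) * (u * c) * v := by rw [hxu, hxv']; group
      _ = u * v * (c * u * c) * v := by rw [hcv.eq]; group
      _ = (u * v) * (u * v) := by rw [hcuc]; group
  calc x * ((u * v) * (u * v)) = x * ((u * v) * (u * v)) * x * x := by
        rw [mul_assoc _ x x, hx, mul_one]
    _ = (u * v) * (u * v) * x := by rw [key]

variable [Finite G] {H P Q : Subgroup G} {h y : G} {m : ℕ} {b : ℤ → G}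

namespace Path

theorem card_succ (p : Path H P Q h y m b) {a t : ℤ} (h1 : a ≤ t) (h2 : t + 1 ≤ a + m) :
    Nat.card (window b a (t + 1)) = 2 * Nat.card (window b a t) := by
  obtain ⟨k, rfl⟩ : ∃ k : ℕ, t = a + k := ⟨(t - a).toNat, by omega⟩
  rw [show a + (k : ℤ) + 1 = a + ((k + 1 : ℕ) : ℤ) by push_cast; ring,
    p.card_window a k (by omega), p.card_window a (k + 1) (by omega), pow_succ, mul_comm]

theorem card_pred (p : Path H P Q h y m b) {a t : ℤ} (h1 : a < t) (h2 : t ≤ a + m) :
    Nat.card (window b a t) = 2 * Nat.card (window b (a + 1) t) := by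
  obtain ⟨k, rfl⟩ : ∃ k : ℕ, t = a + 1 + k := ⟨(t - (a + 1)).toNat, by omega⟩
  rw [p.card_window (a + 1) k (by omega),
    show a + 1 + (k : ℤ) = a + ((k + 1 : ℕ) : ℤ) by push_cast; ring,
    p.card_window a (k + 1) (by omega), pow_succ, mul_comm]

theorem right_not_mem (p : Path H P Q h y m b) {a t : ℤ} (h1 : a ≤ t) (h2 : t + 1 ≤ a + m) :
    b t ∉ window b a t := by
  intro hm
  have hle : window b a (t + 1) ≤ window b a t := window_le.2 fun i hi hit => by
    rcases eq_or_lt_of_le (Int.lt_add_one_iff.1 hit) with rfl | hlt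
    · exact hm
    · exact b_mem_window hi hlt
  have := Subgroup.card_le_of_le hle
  have := p.card_succ h1 h2
  have : 0 < Nat.card (window b a t) := Nat.card_pos
  omega

theorem left_not_mem (p : Path H P Q h y m b) {a t : ℤ} (h1 : a < t) (h2 : t ≤ a + m) :
    b a ∉ window b (a + 1) t := by
  intro hm
  have hle : window b a t ≤ window b (a + 1) t := window_le.2 fun i hi hit => by
    rcases eq_or_lt_of_le hi with rfl | hlt
    · exact hm
    · exact b_mem_window (by omega) hit
  have := Subgroup.card_le_of_le hle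
  have := p.card_pred h1 h2
  have : 0 < Nat.card (window b (a + 1) t) := Nat.card_pos
  omega

/-- Intersections of windows. -/
theorem inter (p : Path H P Q h y m b) {a s t : ℤ} (h1 : a ≤ s) (h2 : s ≤ t)
    (h3 : t + 1 ≤ a + m) {z : G} (hz : z ∈ window b a t) (hz' : z ∈ window b s (t + 1)) :
    z ∈ window b s t := by
  rcases mem_or_mul_mem (window_mono le_rfl (by omega)) (p.card_succ h2 (by omega))
    (b_mem_window h2 (by omega)) (p.right_not_mem h2 (by omega)) hz' with h | h
  · exact h
  · exact absurd ((mul_mem_cancel_left hz).1 (window_mono h1 le_rfl h))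
      (p.right_not_mem (h1.trans h2) h3)

theorem eq_one_of_disjoint (p : Path H P Q h y m b) {a t s : ℤ} (h1 : a ≤ t) (h2 : t ≤ s)
    (k : ℕ) (h3 : s + k ≤ a + m) {z : G} (hz : z ∈ window b a t)
    (hz' : z ∈ window b s (s + k)) : z = 1 := by
  induction k with
  | zero => simpa [window_self] using hz'
  | succ k ih =>
    refine ih (by omega) (p.inter (a := a) (by omega) (by omega) (by omega)
      (window_mono le_rfl (by omega) hz) ?_)
    rwa [Nat.cast_succ, ← add_assoc] at hz'

theorem inv_b (p : Path H P Q h y m b) (i : ℤ) : (b i)⁻¹ = b i :=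
  inv_eq_of_mul_eq_one_right (p.invol i)

theorem shift_mem (p : Path H P Q h y m b) (i : ℤ) {a t : ℤ} {z : G} (hz : z ∈ window b a t) :
    (shift h y ^ i) z ∈ window b (i + a) (i + t) := by
  have : window b a t ≤ (window b (i + a) (i + t)).comap (shift h y ^ i).toMonoidHom :=
    window_le.2 fun j h1 h2 => by
      show (shift h y ^ i) (b j) ∈ window b (i + a) (i + t)
      rw [p.shift_b]
      exact b_mem_window (by omega) (by omega)
  exact this hz

theorem commute_shift (p : Path H P Q h y m b) (k : ℤ) {i j : ℤ} (hc : Commute (b i) (b j)) :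
    Commute (b (k + i)) (b (k + j)) := by
  have := hc.map (shift h y ^ k).toMonoidHom
  simpa [p.shift_b] using this

/-- `b i b j b i b j` lies strictly between. -/
theorem step (p : Path H P Q h y m b) {i j : ℤ} (hij : i < j) (hm : j + 1 ≤ i + m) :
    b i * b j * b i * b j ∈ window b (i + 1) j := by
  have hr := le_normalizer_of_card (window_mono (by omega) le_rfl)
    (p.card_pred (a := i) (t := j + 1) (by omega) hm)
  have hl := le_normalizer_of_card (window_mono le_rfl (by omega))
    (p.card_succ (a := i) (t := j) (by omega) hm)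
  refine p.inter (a := i) (by omega) hij hm ?_ ?_
  · have := (conj_mem_iff_of_mem_normalizer (hl (b_mem_window hij.le (lt_add_one j)))
      (b i)).2 (b_mem_window le_rfl hij)
    rw [p.inv_b] at this
    simpa [mul_assoc] using mul_mem (b_mem_window (b := b) (a := i) le_rfl hij) this
  · have := (conj_mem_iff_of_mem_normalizer (hr (b_mem_window le_rfl (by omega))) (b j)).2
      (b_mem_window (by omega) (lt_add_one j))
    rw [p.inv_b] at this
    exact mul_mem this (b_mem_window (by omega) (lt_add_one j))

theorem sup_centralizer_le {z : G} (hz : z ∈ P) (hP : ∀ v ∈ P, Commute z v) :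
    P ⊔ Subgroup.centralizer (P : Set G) ≤ Subgroup.centralizer {z} :=
  sup_le (fun v hv => Subgroup.mem_centralizer_singleton_iff.2 (hP v hv).symm.eq)
    (fun v hv => Subgroup.mem_centralizer_singleton_iff.2 ((Subgroup.mem_centralizer_iff.1 hv z hz).symm))

/-- No non-trivial element of `P` commutes with `b (-1), …, b m`. -/
theorem eq_one_of_commute (p : Path H P Q h y m b) {z : G} (hz : z ∈ P)
    (hc : ∀ i : ℤ, -1 ≤ i → i ≤ m → Commute z (b i)) : z = 1 := by
  set W : Subgroup G := P ⊓ Subgroup.centralizer (H : Set G) ⊓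
    Subgroup.centralizer ((fun v => y⁻¹ * v * y) '' (H : Set G)) with hW
  have hmem : ∀ w, w ∈ W ↔
      w ∈ P ∧ ∀ v ∈ H, Commute w v ∧ Commute w (y⁻¹ * v * y) := by
    intro w
    simp only [hW, Subgroup.mem_inf, Subgroup.mem_centralizer_iff, Set.forall_mem_image,
      SetLike.mem_coe, Commute, SemiconjBy]
    exact ⟨fun ⟨⟨a, b'⟩, c⟩ => ⟨a, fun v hv => ⟨(b' v hv).symm, (c hv).symm⟩⟩,
      fun ⟨a, b'⟩ => ⟨⟨a, fun v hv => (b' v hv).1.symm⟩, fun v hv => (b' v hv).2.symm⟩⟩
  have hzW : z ∈ W := by
    refine (hmem z).2 ⟨hz, fun v hv => ⟨commute_of_mem_window (a := -1) (t := (m : ℤ)) (fun i h1 h2 => hc i h1 (by omega))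
      (p.H_eq.ge hv), ?_⟩⟩
    have h1 : h * v * h⁻¹ ∈ window b (-1) m :=
      p.H_eq.ge (mul_mem (mul_mem p.setup.mem_H hv) (inv_mem p.setup.mem_H))
    have h2 := p.shift_mem 1 h1
    rw [zpow_one, shift_apply] at h2
    refine commute_of_mem_window (a := (1 : ℤ) + -1) (t := 1 + (m : ℤ)) (fun i h1 h3 => hc i (by omega) (by omega)) ?_
    simpa [mul_assoc] using h2
  have hHN : H ≤ Subgroup.normalizer (W : Set G) := fun u hu =>
    mem_normalizer_of_forall fun w hw => by
      rw [← ((hmem w).1 hw).2 u hu |>.1.eq, mul_inv_cancel_right]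
      exact hw
  have hy : y ∈ Subgroup.normalizer (W : Set G) := by
    refine mem_normalizer_of_forall fun w hw => ?_
    obtain ⟨hwP, hwc⟩ := (hmem w).1 hw
    have hy2 : Commute (y ^ 2) w := Subgroup.mem_centralizer_singleton_iff.1
      (sup_centralizer_le hwP (fun v hv => (hwc v (p.setup.le_H hv)).1) p.setup.sq_y)
    refine (hmem _).2 ⟨(p.setup.norm_y w).2 hwP, fun v hv => ⟨?_, ?_⟩⟩
    · have := (hwc v hv).2.map (MulAut.conj y).toMonoidHom
      simpa [mul_assoc] using this
    · have h1 : Commute w ((y ^ 2)⁻¹ * v * y ^ 2) :=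
        (hy2.symm.inv_right.mul_right (hwc v hv).1).mul_right hy2.symm
      have := h1.map (MulAut.conj y).toMonoidHom
      simpa [mul_assoc, pow_two] using this
  have := p.setup.free W (inf_le_left.trans inf_le_left) hHN hy
  rw [this] at hzW
  simpa using hzW

/-- The commutation length. -/
structure Length (m : ℕ) (b : ℤ → G) (l : ℕ) : Prop where
  two_le : 2 ≤ l
  le_m : l ≤ m
  comm : ∀ i j : ℤ, j < i + l → i < j + l → Commute (b i) (b j)
  not_comm : ∀ i : ℤ, ¬ Commute (b i) (b (i + l))
  bound : 2 * l ≤ m + 2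

theorem exists_length (p : Path H P Q h y m b) : ∃ l, Length m b l := by
  classical
  have hm := p.two_le
  have hex : ∃ d : ℕ, d ≤ m ∧ ¬ Commute (b 0) (b d) := by
    by_contra! hall
    refine p.ne_one 0 (p.eq_one_of_commute
      (p.P_eq.le (b_mem_window le_rfl (by omega))) fun i h1 h2 => ?_)
    obtain ⟨d, rfl | rfl⟩ := Int.eq_nat_or_neg i
    · exact hall d (by omega)
    · have := (p.commute_shift (-(d : ℤ)) (hall d (by omega))).symm
      simpa using this
  obtain ⟨l, ⟨hlm, hl⟩, hmin⟩ :=
    (⟨Nat.find hex, Nat.find_spec hex, fun d hd => Nat.find_min hex hd⟩ :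
      ∃ l, (l ≤ m ∧ ¬ Commute (b 0) (b l)) ∧ ∀ d < l, ¬ (d ≤ m ∧ ¬ Commute (b 0) (b d)))
  have hcomm0 : ∀ d : ℕ, d < l → Commute (b 0) (b d) := fun d hd => by
    have := hmin d hd
    by_contra hcon
    exact this ⟨by omega, hcon⟩
  have hcomm : ∀ i j : ℤ, j < i + l → i < j + l → Commute (b i) (b j) := by
    intro i j h1 h2
    rcases le_total i j with hij | hij
    · obtain ⟨d, hd⟩ : ∃ d : ℕ, j = i + d := ⟨(j - i).toNat, by omega⟩
      subst hd
      simpa using p.commute_shift i (hcomm0 d (by omega))
    · obtain ⟨d, hd⟩ : ∃ d : ℕ, i = j + d := ⟨(i - j).toNat, by omega⟩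
      subst hd
      simpa using (p.commute_shift j (hcomm0 d (by omega))).symm
  have h2 : 2 ≤ l := by
    by_contra hlt
    haveI : IsMulCommutative ↥(window b 0 2) := by
      haveI : Fact (Nat.Prime 2) := ⟨Nat.prime_two⟩
      exact IsPGroup.isMulCommutative_of_card_eq_prime_sq (p := 2)
        (by simpa using p.card_window 0 2 hm)
    have := mul_comm' (⟨b 0, b_mem_window le_rfl (by norm_num)⟩ : window b 0 2)
      ⟨b l, b_mem_window (by omega) (by omega)⟩
    exact hl (congrArg Subtype.val this)
  refine ⟨l, h2, hlm, hcomm, fun i hc => hl ?_, ?_⟩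
  · simpa using p.commute_shift (-i) hc
  · by_contra hlt
    refine p.ne_one ((l : ℤ) - 2) (p.eq_one_of_commute
      (p.P_eq.le (b_mem_window (by omega) (by omega))) fun i h1 h3 => ?_)
    exact hcomm _ _ (by omega) (by omega)

end Path

end Cfsg.Agent.LocalEven61.DihedralPush
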