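import Cfsg.Agent.LocalEven61.DihedralPush.Bounds

/-!
The possible window lengths: `2`, `3` and `4`.
-/

set_option autoImplicit false
set_option linter.style.haveILetI false
set_option linter.unusedSectionVars false

namespace Cfsg.Agent.LocalEven61.DihedralPush

variable {G : Type*} [Group G]

theorem commute_window {b : ℤ → G} {a t : ℤ}
    (hc : ∀ i j, a ≤ i → i < t → a ≤ j → j < t → Commute (b i) (b j)) {z w : G}
    (hz : z ∈ window b a t) (hw : w ∈ window b a t) : Commute z w :=
  commute_of_mem_window (fun j h1 h2 => (commute_of_mem_window (u := b j)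
    (fun i h3 h4 => hc j i h1 h2 h3 h4) hz).symm) hw

theorem sq_window {b : ℤ → G} {a t : ℤ}
    (hc : ∀ i j, a ≤ i → i < t → a ≤ j → j < t → Commute (b i) (b j))
    (hinv : ∀ i, b i * b i = 1) {z : G} (hz : z ∈ window b a t) : z * z = 1 := by
  induction hz using Subgroup.closure_induction with
  | mem u hu => obtain ⟨i, -, rfl⟩ := hu; exact hinv i
  | one => simp
  | mul u v hu hv hu2 hv2 =>
    rw [show u * v * (u * v) = u * (v * u) * v by group, (commute_window hc hv hu).eq,
      show u * (u * v) * v = u * u * (v * v) by group, hu2, hv2, one_mul]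
  | inv u _ hu2 => rw [← mul_inv_rev, hu2, inv_one]

variable [Finite G] {H P Q : Subgroup G} {h y : G} {m : ℕ} {b : ℤ → G}

namespace Path

theorem eq_of_mem_single (p : Path H P Q h y m b) {a : ℤ} {z : G}
    (hz : z ∈ window b a (a + 1)) : z = 1 ∨ z = b a := by
  have hm := p.two_le
  rcases mem_or_mul_mem (window_mono le_rfl (by omega)) (p.card_succ le_rfl (by omega))
    (b_mem_window le_rfl (lt_add_one a)) (p.right_not_mem le_rfl (by omega)) hz with h | h
  · left; simpa [window_self] using h
  · right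
    rw [window_self, Subgroup.mem_bot] at h
    rw [eq_inv_of_mul_eq_one_left h, p.inv_b]

theorem eq_of_mem_pair (p : Path H P Q h y m b) {a : ℤ} {z : G}
    (hz : z ∈ window b a (a + 2)) (hz1 : z ≠ 1) :
    z = b a ∨ z = b (a + 1) ∨ z = b a * b (a + 1) := by
  have hm := p.two_le
  rw [show a + 2 = a + 1 + 1 by ring] at hz
  rcases mem_or_mul_mem (window_mono le_rfl (by omega))
    (p.card_succ (a := a) (t := a + 1) (by omega) (by omega))
    (b_mem_window (by omega) (by omega)) (p.right_not_mem (by omega) (by omega)) hz with h | h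
  · exact Or.inl ((p.eq_of_mem_single h).resolve_left hz1)
  · rcases p.eq_of_mem_single h with h' | h'
    · exact Or.inr (Or.inl (by rw [eq_inv_of_mul_eq_one_left h', p.inv_b]))
    · refine Or.inr (Or.inr ?_)
      rw [← h', mul_assoc, p.invol, mul_one]

theorem relation_shift (p : Path H P Q h y m b) {l : ℤ} {z : G}
    (hw : b 0 * b l * (b 0 * b l) = z) (i : ℤ) :
    b i * b (i + l) * (b i * b (i + l)) = (shift h y ^ i) z := by
  rw [← hw, map_mul, map_mul, p.shift_b, p.shift_b, add_zero]

theorem conj_eq (p : Path H P Q h y m b) (i j : ℤ) :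
    b i * b j * (b i)⁻¹ = b i * b j * (b i * b j) * b j := by
  rw [p.inv_b, show b i * b j * (b i * b j) * b j = b i * b j * b i * (b j * b j) by group,
    p.invol, mul_one]

theorem conj_mem_six (p : Path H P Q h y 6 b)
    (hc : ∀ i j : ℤ, j < i + 4 → i < j + 4 → Commute (b i) (b j))
    (hnc : ∀ i : ℤ, ¬ Commute (b i) (b (i + 4)))
    (hw : b 0 * b 4 * (b 0 * b 4) = b 2) {i j : ℤ} (hi : -1 ≤ i) (hi' : i < 6)
    (hj : 1 ≤ j) (hj' : j < 5) : b i * b j * (b i)⁻¹ ∈ window b 1 5 := by
  have hjm : b j ∈ window b 1 5 := b_mem_window hj hj'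
  by_cases hcc : j < i + 4 ∧ i < j + 4
  · rwa [(hc i j hcc.1 hcc.2).eq, mul_inv_cancel_right]
  · rw [p.conj_eq]
    refine mul_mem ?_ hjm
    have hrel : ∀ k : ℤ, b k * b (k + 4) * (b k * b (k + 4)) = b (k + 2) := fun k => by
      rw [p.relation_shift hw k, p.shift_b]
    obtain h1 | h1 : j = i + 4 ∨ i = j + 4 ∨ (i = -1 ∧ j = 4) := by omega
    · subst h1
      rw [hrel]
      exact b_mem_window (by omega) (by omega)
    · rcases h1 with h1 | ⟨rfl, rfl⟩
      · subst h1
        rw [show b (j + 4) * b j * (b (j + 4) * b j) =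
          ((b j)⁻¹ * (b (j + 4))⁻¹ * ((b j)⁻¹ * (b (j + 4))⁻¹))⁻¹ by group, p.inv_b, p.inv_b,
          hrel, p.inv_b]
        exact b_mem_window (by omega) (by omega)
      · set c := b (-1) * b 4 * (b (-1) * b 4) with hcdef
        have hc0 : c ∈ window b 0 4 := by
          simpa [hcdef, mul_assoc] using p.step (i := -1) (j := 4) (by norm_num) (by norm_num)
        have hcom : ∀ k l : ℤ, 0 ≤ k → k < 4 → 0 ≤ l → l < 4 → Commute (b k) (b l) :=
          fun k l _ _ _ _ => hc k l (by omega) (by omega)
        rcases mem_or_mul_mem (window_mono (by norm_num) le_rfl)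
          (p.card_pred (a := 0) (t := 4) (by norm_num) (by norm_num))
          (b_mem_window le_rfl (by norm_num))
          (p.left_not_mem (by norm_num) (by norm_num)) hc0 with h | h
        · exact window_mono (by norm_num) (by norm_num) h
        · exfalso
          have h4 : Commute (b 4) (c * b 0) :=
            commute_of_mem_window (fun k _ _ => hc 4 k (by omega) (by omega)) h
          have hinvc : b 4 * c * b 4 = c := by
            calc b 4 * c * b 4 = c⁻¹ := by
                  rw [show c⁻¹ = (b 4)⁻¹ * (b (-1))⁻¹ * ((b 4)⁻¹ * (b (-1))⁻¹) by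
                    rw [hcdef]; group, p.inv_b, p.inv_b, hcdef,
                    show b 4 * (b (-1) * b 4 * (b (-1) * b 4)) * b 4 =
                      b 4 * b (-1) * b 4 * b (-1) * (b 4 * b 4) by group, p.invol]
                  group
              _ = c := inv_eq_of_mul_eq_one_right (sq_window hcom p.invol hc0)
          have hcomc : Commute (b 4) c := by
            calc b 4 * c = b 4 * c * b 4 * b 4 := by rw [mul_assoc _ (b 4), p.invol, mul_one]
              _ = c * b 4 := by rw [hinvc]
          have h04 : Commute (b 4) (b 0) := by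
            have := hcomc.inv_right.mul_right h4
            rwa [inv_mul_cancel_left] at this
          exact hnc 0 (by simpa using h04.symm)

theorem ne_six (p : Path H P Q h y 6 b)
    (hc : ∀ i j : ℤ, j < i + 4 → i < j + 4 → Commute (b i) (b j))
    (hnc : ∀ i : ℤ, ¬ Commute (b i) (b (i + 4)))
    (hw : b 0 * b 4 * (b 0 * b 4) = b 2) : False := by
  set D := window b 1 5 with hD
  have hQ : window b 0 5 = Q := by simpa using p.Q_eq
  have hP : window b 0 6 = P := by simpa using p.P_eq
  have hDmem : ∀ z, z ∈ D ↔ z ∈ Q ∧ y * z * y⁻¹ ∈ Q := by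
    intro z
    have hyz : y * z * y⁻¹ ∈ Q ↔ z ∈ window b 1 6 := by
      rw [← conj_mem_iff_of_mem_normalizer (p.setup.normal_Q p.setup.mem_H), ← hQ,
        show h * (y * z * y⁻¹) * h⁻¹ = (shift h y ^ (-1 : ℤ)) z by
          rw [shift, ← map_zpow]; simp [mul_assoc]]
      refine ⟨fun h1 => ?_, fun h1 => ?_⟩
      · have := p.shift_mem 1 h1
        rw [zpow_chain_comm, add_neg_cancel, zpow_zero, MulAut.one_apply] at this
        norm_num at this
        exact this
      · have := p.shift_mem (-1) h1
        norm_num at this ⊢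
        exact this
    rw [hyz, ← hQ]
    exact ⟨fun h1 => ⟨window_mono (by norm_num) le_rfl h1, window_mono le_rfl (by norm_num) h1⟩,
      fun ⟨h1, h2⟩ => p.inter (a := 0) (by norm_num) (by norm_num) (by norm_num) h1 h2⟩
  have hy2 : y ^ 2 ∈ Subgroup.normalizer (Q : Set G) := by
    have hle : P ⊔ Subgroup.centralizer (P : Set G) ≤ Subgroup.normalizer (Q : Set G) := by
      refine sup_le (p.setup.le_H.trans p.setup.normal_Q) fun u hu => ?_
      refine mem_normalizer_of_forall fun v hv => ?_
      rw [← Subgroup.mem_centralizer_iff.1 hu v (p.setup.le_P hv), mul_inv_cancel_right]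
      exact hv
    exact hle p.setup.sq_y
  have hy : y ∈ Subgroup.normalizer (D : Set G) := mem_normalizer_of_forall fun z hz => by
    obtain ⟨h1, h2⟩ := (hDmem z).1 hz
    refine (hDmem _).2 ⟨h2, ?_⟩
    have := (conj_mem_iff_of_mem_normalizer hy2 z).2 h1
    simpa [pow_two, mul_assoc] using this
  have hH : H ≤ Subgroup.normalizer (D : Set G) := by
    rw [← p.H_eq]
    refine window_le.2 fun i hi hi' => mem_normalizer_of_forall fun z hz => ?_
    have : window b 1 5 ≤ D.comap (MulAut.conj (b i)).toMonoidHom :=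
      window_le.2 fun j hj hj' => p.conj_mem_six hc hnc hw hi (by simpa using hi') hj hj'
    exact this hz
  have hDP : D ≤ P := hP ▸ window_mono (by norm_num) (by norm_num)
  have hbot := p.setup.free D hDP hH hy
  have h1 : b 1 ∈ D := b_mem_window le_rfl (by norm_num)
  rw [hbot] at h1
  exact p.ne_one 1 (Subgroup.mem_bot.1 h1)

/-- The window length is `2`, `3` or `4`, with the corresponding relations. -/
theorem cases (p : Path H P Q h y m b) :
    (m = 2 ∧ ∀ i : ℤ, Commute (b i) (b (i + 1))) ∨
    (m = 3 ∧ (∀ i j : ℤ, j < i + 2 → i < j + 2 → Commute (b i) (b j)) ∧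
      ∀ i : ℤ, b i * b (i + 2) * (b i * b (i + 2)) = b (i + 1)) ∨
    (m = 4 ∧ (∀ i j : ℤ, j < i + 3 → i < j + 3 → Commute (b i) (b j)) ∧
      ((∀ i : ℤ, b i * b (i + 3) * (b i * b (i + 3)) = b (i + 1)) ∨
       (∀ i : ℤ, b i * b (i + 3) * (b i * b (i + 3)) = b (i + 2)) ∨
       (∀ i : ℤ, b i * b (i + 3) * (b i * b (i + 3)) = b (i + 1) * b (i + 2)))) := by
  classical
  obtain ⟨l, L⟩ := p.exists_length
  have hm := p.two_le
  have hl2 := L.two_le
  have hlm := L.le_m
  have hb := L.bound
  rcases eq_or_lt_of_le hlm with rfl | hlt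
  · left
    exact ⟨by omega, fun i => L.comm _ _ (by omega) (by omega)⟩
  set w := b 0 * b l * (b 0 * b l) with hwdef
  have hw1 : w ≠ 1 := by
    intro he
    refine L.not_comm 0 ?_
    rw [zero_add]
    show b 0 * b l = b l * b 0
    rw [eq_inv_of_mul_eq_one_left he, mul_inv_rev, p.inv_b, p.inv_b]
  have hwm : w ∈ window b 1 l := by
    simpa [hwdef, mul_assoc] using p.step (i := 0) (j := (l : ℤ)) (by omega) (by omega)
  have hexμ : ∃ k : ℕ, w ∈ window b ((l : ℤ) - k) l :=
    ⟨l - 1, by rwa [show (l : ℤ) - (l - 1 : ℕ) = 1 by omega]⟩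
  have hexν : ∃ k : ℕ, w ∈ window b 1 (1 + (k : ℤ)) :=
    ⟨l - 1, by rwa [show 1 + ((l - 1 : ℕ) : ℤ) = l by omega]⟩
  obtain ⟨k, hk, hkmin⟩ :=
    (⟨Nat.find hexμ, Nat.find_spec hexμ, fun k hk => Nat.find_min hexμ hk⟩ :
      ∃ k : ℕ, w ∈ window b ((l : ℤ) - k) l ∧ ∀ k' < k, w ∉ window b ((l : ℤ) - k') l)
  obtain ⟨ν, hν, hνmin⟩ :=
    (⟨Nat.find hexν, Nat.find_spec hexν, fun k hk => Nat.find_min hexν hk⟩ :
      ∃ k : ℕ, w ∈ window b 1 (1 + (k : ℤ)) ∧ ∀ k' < k, w ∉ window b 1 (1 + (k' : ℤ)))
  have hk0 : 1 ≤ k := by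
    by_contra hk0
    obtain rfl : k = 0 := by omega
    exact hw1 (by simpa [window_self] using hk)
  have hν0 : 1 ≤ ν := by
    by_contra hν0
    obtain rfl : ν = 0 := by omega
    exact hw1 (by simpa [window_self] using hν)
  have hkl : k < l := by
    by_contra hkl
    exact hkmin (l - 1) (by omega) (by rwa [show (l : ℤ) - (l - 1 : ℕ) = 1 by omega])
  have hνl : ν < l := by
    by_contra hνl
    exact hνmin (l - 1) (by omega) (by rwa [show 1 + ((l - 1 : ℕ) : ℤ) = l by omega])
  obtain ⟨μ, hμk⟩ : ∃ μ : ℕ, μ + k = l := ⟨l - k, by omega⟩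
  have hμν : μ ≤ ν := by
    by_contra hlt'
    exact hw1 (p.eq_one_of_disjoint (a := 1) (t := 1 + (ν : ℤ)) (s := (l : ℤ) - k) (by omega)
      (by omega) k (by omega) hν (by simpa using hk))
  have h1 : m ≤ l + μ := by
    by_contra hlt'
    set x := b ((l : ℤ) + μ) with hx
    have hcw : Commute x w := by
      refine commute_sq_of_relation (p.invol 0) (p.invol _) (L.comm _ _ (by omega) (by omega))
        rfl ?_
      refine (commute_of_mem_window (a := 1) (t := (l : ℤ) + μ)
        (fun i h1 h2 => L.comm l i (by omega) (by omega)) ?_).symm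
      simpa [mul_assoc] using p.step (i := 0) (j := (l : ℤ) + μ) (by omega) (by omega)
    have hwn : w ∉ window b ((l : ℤ) - k + 1) l := by
      rw [show (l : ℤ) - k + 1 = l - (k - 1 : ℕ) by omega]
      exact hkmin (k - 1) (by omega)
    have hmem := (mem_or_mul_mem (window_mono (by omega) le_rfl)
      (p.card_pred (a := (l : ℤ) - k) (t := l) (by omega) (by omega))
      (b_mem_window le_rfl (by omega)) (p.left_not_mem (by omega) (by omega)) hk).resolve_left hwn
    have h3 : Commute x (w * b ((l : ℤ) - k)) :=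
      commute_of_mem_window (fun i h1 h2 => L.comm _ _ (by omega) (by omega)) hmem
    have h4 : Commute x (b ((l : ℤ) - k)) := by
      have := hcw.inv_right.mul_right h3
      rwa [inv_mul_cancel_left] at this
    refine L.not_comm ((l : ℤ) - k) ?_
    rw [hx, show (l : ℤ) + μ = l - k + l by omega] at h4
    exact h4.symm
  have h2 : m + ν ≤ 2 * l := by
    by_contra hlt'
    set x := b ((ν : ℤ) - l) with hx
    have hcw : Commute x w := by
      have h5 : Commute x (b l * b 0 * (b l * b 0)) := by
        refine commute_sq_of_relation (p.invol l) (p.invol _) (L.comm _ _ (by omega) (by omega))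
          rfl ?_
        refine (commute_of_mem_window (a := (ν : ℤ) - l + 1) (t := (l : ℤ))
          (fun i h1 h2 => L.comm 0 i (by omega) (by omega)) ?_).symm
        have := inv_mem (p.step (i := (ν : ℤ) - l) (j := (l : ℤ)) (by omega) (by omega))
        rw [mul_inv_rev, mul_inv_rev, mul_inv_rev, p.inv_b, p.inv_b] at this
        simpa [hx, mul_assoc] using this
      have h6 := h5.inv_right
      rw [mul_inv_rev, mul_inv_rev, p.inv_b, p.inv_b] at h6
      exact h6
    have hmem := (mem_or_mul_mem (window_mono le_rfl (by omega))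
      (p.card_succ (a := 1) (t := (ν : ℤ)) (by omega) (by omega))
      (b_mem_window (by omega) (by omega)) (p.right_not_mem (by omega) (by omega))
      (by rwa [add_comm (1 : ℤ)] at hν : w ∈ window b 1 ((ν : ℤ) + 1))).resolve_left
      (by have := hνmin (ν - 1) (by omega)
          rwa [show 1 + ((ν - 1 : ℕ) : ℤ) = ν by omega] at this)
    have h3 : Commute x (w * b ν) :=
      commute_of_mem_window (fun i h1 h2 => L.comm _ _ (by omega) (by omega)) hmem
    have h4 : Commute x (b ν) := by
      have := hcw.inv_right.mul_right h3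
      rwa [inv_mul_cancel_left] at this
    refine L.not_comm ((ν : ℤ) - l) ?_
    rwa [sub_add_cancel]
  obtain ⟨rfl, rfl⟩ | ⟨rfl, rfl⟩ | ⟨rfl, rfl⟩ :
      (m = 6 ∧ l = 4) ∨ (m = 4 ∧ l = 3) ∨ (m = 3 ∧ l = 2) := by omega
  · exfalso
    refine p.ne_six (fun i j => L.comm i j) (fun i => L.not_comm i) ?_
    obtain rfl : ν = 2 := by omega
    have hk' : w ∈ window b 2 (3 + 1) := window_mono (by omega) (by norm_num) hk
    have := p.inter (a := 1) (by norm_num) (by norm_num) (by norm_num)
      (by simpa using hν : w ∈ window b 1 3) hk'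
    rw [show (3 : ℤ) = 2 + 1 by norm_num] at this
    simpa [hwdef] using (p.eq_of_mem_single this).resolve_left hw1
  · right; right
    refine ⟨rfl, fun i j => L.comm i j, ?_⟩
    rcases p.eq_of_mem_pair (a := 1) (by simpa using hwm) hw1 with hwe | hwe | hwe
    · exact Or.inl fun i => by
        rw [show (3 : ℤ) = ((3 : ℕ) : ℤ) by rfl, p.relation_shift (hwdef ▸ hwe) i, p.shift_b]
    · exact Or.inr <| Or.inl fun i => by
        rw [show (3 : ℤ) = ((3 : ℕ) : ℤ) by rfl, p.relation_shift (hwdef ▸ hwe) i, p.shift_b]; rfl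
    · exact Or.inr <| Or.inr fun i => by
        rw [show (3 : ℤ) = ((3 : ℕ) : ℤ) by rfl, p.relation_shift (hwdef ▸ hwe) i, map_mul,
          p.shift_b, p.shift_b]; rfl
  · right; left
    refine ⟨rfl, fun i j => L.comm i j, fun i => ?_⟩
    have hwe := (p.eq_of_mem_single (a := 1) (by simpa using hwm)).resolve_left hw1
    rw [show (2 : ℤ) = ((2 : ℕ) : ℤ) by rfl, p.relation_shift (hwdef ▸ hwe) i, p.shift_b]

end Path

end Cfsg.Agent.LocalEven61.DihedralPush
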