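import Cfsg.Agent.S1012

/-!
Recognising the symmetric group of degree four from a self-centralising four-group.
-/

set_option autoImplicit false
set_option linter.style.haveILetI false

namespace Cfsg.Agent.LocalEven61.DihedralPush

variable {L : Type*} [Group L]

theorem four_cases {V : Subgroup L} [Finite L] (hV : Nat.card ↥V = 4)
    (hsq : ∀ a ∈ V, a * a = 1) {v w a : L} (hv : v ∈ V) (hw : w ∈ V) (hv1 : v ≠ 1)
    (hw1 : w ≠ 1) (hvw : v ≠ w) (ha : a ∈ V) : a = 1 ∨ a = v ∨ a = w ∨ a = v * w := by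
  classical
  have hvw1 : v * w ≠ 1 := fun h => hvw ((eq_inv_of_mul_eq_one_left h).trans
    (inv_eq_of_mul_eq_one_right (hsq w hw)))
  have hs : ({1, v, w, v * w} : Set L) ⊆ V := by
    rintro _ (rfl | rfl | rfl | rfl)
    exacts [one_mem _, hv, hw, mul_mem hv hw]
  have hn : ({1, v, w, v * w} : Set L).ncard = 4 := by
    rw [Set.ncard_insert_of_notMem, Set.ncard_insert_of_notMem, Set.ncard_insert_of_notMem,
      Set.ncard_singleton]
    · simp [hv1]
    · simp [hvw, hw1]
    · simp [hv1.symm, hw1.symm, hvw1.symm]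
  have heq := Set.eq_of_subset_of_ncard_le hs (by
    rw [hn, show (V : Set L).ncard = 4 from hV]) (Set.toFinite _)
  simpa using heq.symm.le (show a ∈ (V : Set L) from ha)

/-- A group of order `24` with a normal self-centralising four-group is `S₄`. -/
theorem nonempty_perm_four [Finite L] (hL : Nat.card L = 24) (V : Subgroup L) [V.Normal]
    (hV : Nat.card ↥V = 4) (hsq : ∀ a ∈ V, a * a = 1)
    (hcent : ∀ g : L, (∀ a ∈ V, g * a * g⁻¹ = a) → g ∈ V) :
    Nonempty (L ≃* Equiv.Perm (Fin 4)) := by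
  classical
  refine S1012.result hL fun g hg => ?_
  have hVn : ∀ (x : L), ∀ a ∈ V, x * a * x⁻¹ ∈ V := fun x a ha => (inferInstance : V.Normal).conj_mem a ha x
  have hcomm : ∀ a ∈ V, ∀ c ∈ V, a * c = c * a := fun a ha c hc => by
    calc a * c = (c * a)⁻¹ := by
          rw [mul_inv_rev, inv_eq_of_mul_eq_one_right (hsq a ha),
            inv_eq_of_mul_eq_one_right (hsq c hc)]
      _ = c * a := inv_eq_of_mul_eq_one_right (hsq _ (mul_mem hc ha))
  set y := g ^ 2 with hy
  set z := g ^ 3 with hz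
  have hg6 : g ^ 6 = 1 := hg ▸ pow_orderOf_eq_one g
  have hy3 : y ^ 3 = 1 := by rw [hy, ← pow_mul]; exact hg6
  have hyV : y ∉ V := fun hyV => by
    have h2 : g ^ 4 = 1 := by
      have := hsq y hyV
      rwa [hy, ← pow_add] at this
    have := orderOf_dvd_of_pow_eq_one h2
    rw [hg] at this
    norm_num at this
  have hfix : ∀ v ∈ V, y * v * y⁻¹ = v → v = 1 := by
    intro v hv he
    by_contra hv1
    refine hyV (hcent y fun a ha => ?_)
    by_cases ha1 : a = 1
    · subst ha1; group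
    by_cases hav : a = v
    · subst hav; exact he
    rcases four_cases hV hsq hv ha hv1 ha1 (Ne.symm hav) (hVn y a ha) with h | h | h | h
    · exact absurd (conj_eq_one_iff.1 h) ha1
    · exact absurd ((MulAut.conj y).injective (by simpa using h.trans he.symm)) hav
    · exact h
    · have h2 : y ^ 2 * a * (y ^ 2)⁻¹ = a := by
        calc y ^ 2 * a * (y ^ 2)⁻¹ = y * (y * a * y⁻¹) * y⁻¹ := by rw [pow_two]; group
          _ = y * (v * a) * y⁻¹ := by rw [h]
          _ = (y * v * y⁻¹) * (y * a * y⁻¹) := by group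
          _ = a := by rw [he, h, ← mul_assoc, hsq v hv, one_mul]
      calc y * a * y⁻¹ = y * (y ^ 2 * a * (y ^ 2)⁻¹) * y⁻¹ := by rw [h2]
        _ = y ^ 3 * a * (y ^ 3)⁻¹ := by simp only [pow_succ, pow_zero, one_mul]; group
        _ = a := by rw [hy3]; group
  have hzy : z * y = y * z := by rw [hy, hz, ← pow_add, ← pow_add]
  have hz1 : z ≠ 1 := fun h => by
    have := orderOf_dvd_of_pow_eq_one (hz.symm.trans h)
    rw [hg] at this
    norm_num at this
  have hzV : z ∉ V := fun h => hz1 (hfix z h (by rw [← hzy, mul_inv_cancel_right]))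
  refine hzV (hcent z ?_)
  obtain ⟨v, hv, hv1, hvz⟩ : ∃ v ∈ V, v ≠ 1 ∧ z * v * z⁻¹ = v := by
    haveI : Nontrivial ↥V := Finite.one_lt_card_iff_nontrivial.1 (by omega)
    obtain ⟨⟨w, hw⟩, hw1⟩ := exists_ne (1 : ↥V)
    have hw1' : w ≠ 1 := fun h => hw1 (Subtype.ext h)
    by_cases h : z * w * z⁻¹ = w
    · exact ⟨w, hw, hw1', h⟩
    · refine ⟨w * (z * w * z⁻¹), mul_mem hw (hVn z w hw), fun h0 => h ?_, ?_⟩
      · rw [← inv_eq_of_mul_eq_one_right h0, inv_eq_of_mul_eq_one_right (hsq w hw)]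
      · have hz2 : z * z = 1 := by rw [hz, ← pow_add]; exact hg6
        calc z * (w * (z * w * z⁻¹)) * z⁻¹ = (z * w * z⁻¹) * ((z * z) * w * (z * z)⁻¹) := by group
          _ = w * (z * w * z⁻¹) := by
              rw [hz2, one_mul, inv_one, mul_one, hcomm _ (hVn z w hw) w hw]
  intro a ha
  have hv' : z * (y * v * y⁻¹) * z⁻¹ = y * v * y⁻¹ := by
    calc z * (y * v * y⁻¹) * z⁻¹ = (z * y) * v * (z * y)⁻¹ := by group
      _ = y * (z * v * z⁻¹) * y⁻¹ := by rw [hzy]; group
      _ = y * v * y⁻¹ := by rw [hvz]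
  have hne : v ≠ y * v * y⁻¹ := fun h => hv1 (hfix v hv h.symm)
  rcases four_cases hV hsq hv (hVn y v hv) hv1 (fun h => hv1 (conj_eq_one_iff.1 h)) hne ha with
    rfl | rfl | rfl | rfl
  · group
  · exact hvz
  · exact hv'
  · calc z * (v * (y * v * y⁻¹)) * z⁻¹ = (z * v * z⁻¹) * (z * (y * v * y⁻¹) * z⁻¹) := by group
      _ = v * (y * v * y⁻¹) := by rw [hvz, hv']

end Cfsg.Agent.LocalEven61.DihedralPush
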