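import Cfsg.Prelude.Def_CaseTheorems
import Cfsg.Agent.Lib.Thompson.Cores
import Cfsg.Agent.LocalEven61.DihedralPush.SymFour

/-!
The structure of `X / O(X)` for a group with a dihedral quotient by an elementary abelian
normal `2`-subgroup.
-/

set_option autoImplicit false
set_option linter.style.haveILetI false

open Cfsg

namespace Cfsg.Agent.LocalEven61.DihedralPush

theorem pow_two_four : ∀ x : Multiplicative (ZMod 2) × Multiplicative (ZMod 2), x ^ 2 = 1 := by
  decide

variable {X : Type*} [Group X] [Finite X]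

/-- The ambient data. -/
structure Frame (Q K : Subgroup X) (n : ℕ) : Prop where
  normal_Q : Q.Normal
  normal_K : K.Normal
  le_K : Q ≤ K
  index_K : K.index = 2
  pgroup : IsPGroup 2 ↥Q
  comm : ∀ a ∈ Q, ∀ c ∈ Q, Commute a c
  odd : Odd n
  pow : ∀ k ∈ K, k ^ n ∈ Q

namespace Frame

variable {Q K : Subgroup X} {n : ℕ}

theorem oddCore_le (F : Frame Q K n) : oddCore X ≤ K ∧
    (∀ v ∈ oddCore X, ∀ q ∈ Q, Commute v q) ∧ oddCore X ⊓ Q = ⊥ := by
  haveI : Fact (Nat.Prime 2) := ⟨Nat.prime_two⟩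
  haveI := F.normal_Q
  haveI := F.normal_K
  haveI : (oddCore X).Normal := Thompson.instPPrimeCoreNormal
  have hc : (Nat.card ↥(oddCore X)).Coprime 2 := Thompson.card_pPrimeCore_coprime
  have hbot : oddCore X ⊓ Q = ⊥ := by
    obtain ⟨k, hk⟩ := IsPGroup.iff_card.1 F.pgroup
    exact Subgroup.inf_eq_bot_of_coprime (hk ▸ hc.pow_right k)
  refine ⟨fun v hv => ?_, fun v hv q hq => ?_, hbot⟩
  · have hc' := hc.coprime_dvd_left (orderOf_dvd_natCard (⟨v, hv⟩ : ↥(oddCore X)))
    rw [Subgroup.orderOf_mk] at hc'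
    obtain ⟨j, hj⟩ := Nat.odd_iff.2 (Nat.two_dvd_ne_zero.1 fun h2 => by
      have := Nat.eq_one_of_dvd_coprimes hc' h2 dvd_rfl
      omega)
    have h1 : v ^ orderOf v ∈ K := by rw [pow_orderOf_eq_one]; exact one_mem K
    rw [hj, pow_succ, pow_mul] at h1
    exact (mul_mem_cancel_left (pow_mem (Subgroup.sq_mem_of_index_two F.index_K v) j)).1 h1
  · exact Subgroup.commute_of_normal_of_disjoint _ _ inferInstance inferInstance
      (disjoint_iff.2 hbot) v q hv hq

/-- Elements of `K` centralising `Q` lie in `Q O(X)`. -/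
theorem centralizer_le (F : Frame Q K n) {c : X} (hcK : c ∈ K)
    (hc : ∀ q ∈ Q, Commute c q) : c ∈ Q ⊔ oddCore X := by
  haveI : Fact (Nat.Prime 2) := ⟨Nat.prime_two⟩
  haveI := F.normal_Q
  set C : Subgroup X := K ⊓ Subgroup.centralizer (Q : Set X) with hC
  have hmem : ∀ x, x ∈ C ↔ x ∈ K ∧ ∀ q ∈ Q, Commute x q := fun x => by
    simp only [hC, Subgroup.mem_inf, Subgroup.mem_centralizer_iff, SetLike.mem_coe, Commute,
      SemiconjBy]
    exact and_congr_right' (forall₂_congr fun q _ => eq_comm)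
  haveI : C.Normal := by
    haveI := F.normal_K
    haveI : (Subgroup.centralizer (Q : Set X)).Normal := Subgroup.normal_centralizer
    exact Subgroup.normal_inf_normal _ _
  have hQC : Q ≤ C := fun q hq => (hmem q).2 ⟨F.le_K hq, fun q' hq' => F.comm q hq q' hq'⟩
  set N := Q.subgroupOf C with hN
  have hodd : ¬ 2 ∣ N.index := by
    intro h2
    rw [Subgroup.index_eq_card] at h2
    obtain ⟨z, hz⟩ := exists_prime_orderOf_dvd_card' 2 h2
    induction z using QuotientGroup.induction_on with | H w => ?_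
    have h1 : (QuotientGroup.mk w : ↥C ⧸ N) ^ n = 1 := by
      rw [← QuotientGroup.mk_pow, QuotientGroup.eq_one_iff]
      exact F.pow _ ((hmem _).1 w.2).1
    have h3 := orderOf_dvd_of_pow_eq_one h1
    rw [hz] at h3
    exact (Nat.not_even_iff_odd.2 F.odd) (even_iff_two_dvd.2 h3)
  obtain ⟨k, hk⟩ := IsPGroup.iff_card.1 F.pgroup
  have hcardN : Nat.card ↥N = 2 ^ k := by
    rw [Nat.card_congr (Subgroup.subgroupOfEquivOfLe hQC).toEquiv, hk]
  obtain ⟨T, hT⟩ := Subgroup.exists_right_complement'_of_coprime (N := N)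
    (hcardN ▸ ((Nat.prime_two.coprime_iff_not_dvd).2 hodd).pow_left k)
  have hTodd : Nat.Coprime (Nat.card ↥T) 2 := by
    rw [← (Subgroup.IsComplement'.symm hT).index_eq_card, Nat.coprime_comm]
    exact (Nat.prime_two.coprime_iff_not_dvd).2 hodd
  have hsplit : ∀ x ∈ C, ∃ q ∈ Q, ∃ v ∈ T, q * (v : X) = x := fun x hx => by
    obtain ⟨⟨⟨a, ha⟩, ⟨v, hv⟩⟩, he⟩ := hT.2 ⟨x, hx⟩
    exact ⟨a, ha, v, hv, congrArg Subtype.val he⟩
  have hT' : (T.map C.subtype).Normal := by
    constructor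
    rintro _ ⟨v, hv, rfl⟩ g
    obtain ⟨q, hq, w, hw, he⟩ := hsplit _ ((inferInstance : C.Normal).conj_mem _ v.2 g)
    have hpow : ∀ u ∈ T, (u : X) ^ Nat.card ↥T = 1 := fun u hu =>
      congrArg (fun a : ↥T => ((a : ↥C) : X)) (pow_card_eq_one' (x := (⟨u, hu⟩ : ↥T)))
    have h1 : (g * (v : X) * g⁻¹) ^ Nat.card ↥T = 1 := by
      rw [conj_pow, hpow v hv]; group
    rw [← he, (((hmem _).1 w.2).2 q hq).symm.mul_pow, hpow w hw, mul_one] at h1
    have hq1 : q = 1 := by
      obtain ⟨j, hj⟩ := F.pgroup ⟨q, hq⟩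
      have h2 : q ^ 2 ^ j = 1 := congrArg Subtype.val hj
      exact orderOf_eq_one_iff.1 (Nat.eq_one_of_dvd_coprimes (hTodd.pow_right j)
        (orderOf_dvd_of_pow_eq_one h1) (orderOf_dvd_of_pow_eq_one h2))
    exact ⟨w, hw, by simpa [hq1] using he⟩
  have hTO : T.map C.subtype ≤ oddCore X := Thompson.le_pPrimeCore hT'
    (by rwa [Nat.card_congr (T.equivMapOfInjective _ C.subtype_injective).toEquiv.symm])
  obtain ⟨q, hq, v, hv, rfl⟩ := hsplit c ((hmem c).2 ⟨hcK, hc⟩)
  exact Subgroup.mul_mem_sup hq (hTO ⟨v, hv, rfl⟩)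

/-- The data `r`, `t` acting as `S₃` on `Q`. -/
structure Pair (Q K : Subgroup X) (r t : X) : Prop where
  r_mem : r ∈ K
  t_not_mem : t ∉ K
  inv_r : t * r * t⁻¹ = r⁻¹
  sq_t : t * t = 1
  cube : ∀ q ∈ Q, Commute (r ^ 3) q
  moves_r : ∃ q ∈ Q, ¬ Commute r q
  moves_t : ∃ q ∈ Q, ¬ Commute t q
  gen : Subgroup.closure ({r, t} ∪ (Q : Set X)) = ⊤

theorem quotient_facts (F : Frame Q K n) {r t : X} (p : Pair Q K r t) :
    Nat.card (X ⧸ oddCore X) = 6 * Nat.card ↥Q ∧
      Nat.card ↥(Q.map (QuotientGroup.mk' (oddCore X))) = Nat.card ↥Q ∧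
      ∀ c, (∀ a ∈ Q.map (QuotientGroup.mk' (oddCore X)), c * a * c⁻¹ = a) →
        c ∈ Q.map (QuotientGroup.mk' (oddCore X)) := by
  haveI : Fact (Nat.Prime 2) := ⟨Nat.prime_two⟩
  haveI : Fact (Nat.Prime 3) := ⟨Nat.prime_three⟩
  haveI := F.normal_Q
  haveI := F.normal_K
  haveI : (oddCore X).Normal := Thompson.instPPrimeCoreNormal
  obtain ⟨hOK, hOQ, hbot⟩ := F.oddCore_le
  set O := oddCore X with hO
  set C := Q ⊔ O with hC
  haveI : C.Normal := Subgroup.sup_normal _ _
  have hCK : C ≤ K := sup_le F.le_K hOK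
  have hcC : ∀ c ∈ C, ∀ q ∈ Q, Commute c q := by
    intro c hc q hq
    obtain ⟨a, ha, v, hv, rfl⟩ := Subgroup.mem_sup_of_normal_left.1 hc
    exact (F.comm a ha q hq).mul_left (hOQ v hv q hq)
  set N := C ⊔ Subgroup.zpowers r with hN
  have hrN : r ∈ N := Subgroup.mem_sup_right (Subgroup.mem_zpowers r)
  have hNK : N ≤ K := sup_le hCK (Subgroup.zpowers_le.2 p.r_mem)
  have hNn : N.Normal := by
    rw [← Subgroup.normalizer_eq_top_iff, eq_top_iff, ← p.gen, Subgroup.closure_le]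
    have key : ∀ g : X, g * r * g⁻¹ ∈ N → g ∈ Subgroup.normalizer (N : Set X) := by
      intro g hg
      have hle : N ≤ N.comap (MulAut.conj g).toMonoidHom := sup_le
        (fun c hc => Subgroup.mem_sup_left ((inferInstance : C.Normal).conj_mem c hc g))
        (Subgroup.zpowers_le.2 hg)
      refine Subgroup.mem_normalizer_iff.2 fun z => ⟨fun hz => hle hz, fun hz => ?_⟩
      have heq : N.map (MulAut.conj g).toMonoidHom = N := Subgroup.eq_of_le_of_card_ge
        (Subgroup.map_le_iff_le_comap.2 hle)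
        (le_of_eq (Nat.card_congr (N.equivMapOfInjective _ (MulAut.conj g).injective).toEquiv))
      obtain ⟨z', hz', he⟩ := heq.ge hz
      exact (MulAut.conj g).injective (show MulAut.conj g z' = MulAut.conj g z from he) ▸ hz'
    rintro g (hg | hg)
    · rcases hg with rfl | rfl
      · exact key _ (by simpa using hrN)
      · exact key _ (p.inv_r ▸ inv_mem hrN)
    · exact Subgroup.le_normalizer (Subgroup.mem_sup_left (Subgroup.mem_sup_left hg))
  haveI := hNn
  have hNt : ∀ x, x ∈ N ∨ x * t ∈ N := by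
    intro x
    have hx : x ∈ N ⊔ Subgroup.zpowers t := by
      have : (⊤ : Subgroup X) ≤ N ⊔ Subgroup.zpowers t := by
        rw [← p.gen, Subgroup.closure_le]
        rintro g (hg | hg)
        · rcases hg with hg | hg <;> rw [hg]
          · exact Subgroup.mem_sup_left hrN
          · exact Subgroup.mem_sup_right (Subgroup.mem_zpowers t)
        · exact Subgroup.mem_sup_left (Subgroup.mem_sup_left (Subgroup.mem_sup_left hg))
      exact this (Subgroup.mem_top x)
    obtain ⟨a, ha, w, hw, rfl⟩ := Subgroup.mem_sup_of_normal_left.1 hx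
    obtain ⟨j, rfl⟩ := Subgroup.mem_zpowers_iff.1 hw
    rcases Int.even_or_odd' j with ⟨i, rfl | rfl⟩
    · left; rw [zpow_mul, zpow_ofNat, pow_two, p.sq_t, one_zpow, mul_one]; exact ha
    · right
      rw [zpow_add, zpow_mul, zpow_ofNat, pow_two, p.sq_t, one_zpow, one_mul, zpow_one, mul_assoc,
        p.sq_t, mul_one]
      exact ha
  have hKN : K = N := by
    refine le_antisymm (fun x hx => (hNt x).resolve_right fun h => p.t_not_mem ?_) hNK
    exact (mul_mem_cancel_left hx).1 (hNK h)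
  have hr3 : r ^ 3 ∈ C := F.centralizer_le (pow_mem p.r_mem 3) p.cube
  have hK3 : ∀ k ∈ K, k ^ 3 ∈ C := by
    intro k hk
    obtain ⟨c, hc, w, hw, rfl⟩ := Subgroup.mem_sup_of_normal_left.1 (hKN.le hk)
    obtain ⟨j, rfl⟩ := Subgroup.mem_zpowers_iff.1 hw
    rw [← QuotientGroup.eq_one_iff, QuotientGroup.mk_pow, QuotientGroup.mk_mul,
      (QuotientGroup.eq_one_iff c).2 hc, one_mul, QuotientGroup.mk_zpow, ← zpow_natCast,
      ← zpow_mul, mul_comm, zpow_mul, zpow_natCast, ← QuotientGroup.mk_pow,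
      (QuotientGroup.eq_one_iff _).2 hr3, one_zpow]
  have hcentX : ∀ c, (∀ q ∈ Q, Commute c q) → c ∈ C := by
    intro c hc
    by_cases hcK : c ∈ K
    · exact F.centralizer_le hcK hc
    exfalso
    obtain ⟨q, hq, hne⟩ := p.moves_t
    refine hne ?_
    have hct : c * t ∈ K := (Subgroup.mul_mem_iff_of_index_two F.index_K).2
      (iff_of_false hcK p.t_not_mem)
    have h3 := hcC _ (hK3 _ hct)
    have hconj : ∀ a ∈ Q, (c * t) * a * (c * t)⁻¹ = t * a * t⁻¹ := fun a ha => by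
      have : t * a * t⁻¹ ∈ Q := F.normal_Q.conj_mem a ha t
      calc (c * t) * a * (c * t)⁻¹ = c * (t * a * t⁻¹) * c⁻¹ := by group
        _ = t * a * t⁻¹ := by rw [(hc _ this).eq, mul_inv_cancel_right]
    have htt : ∀ a : X, t * (t * a * t⁻¹) * t⁻¹ = a := fun a => by
      rw [show t * (t * a * t⁻¹) * t⁻¹ = (t * t) * a * (t * t)⁻¹ by group, p.sq_t]; group
    set d := c * t with hd
    have h4 : t * q * t⁻¹ = q := by
      calc t * q * t⁻¹ = d * (d * (d * q * d⁻¹) * d⁻¹) * d⁻¹ := by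
            rw [hconj q hq, hconj _ (F.normal_Q.conj_mem q hq t), htt, hconj q hq]
        _ = d ^ 3 * q * (d ^ 3)⁻¹ := by simp only [pow_succ, pow_zero, one_mul]; group
        _ = q := by rw [(h3 q hq).eq, mul_inv_cancel_right]
    exact mul_inv_eq_iff_eq_mul.1 h4
  have hrC : r ∉ C := fun h => by
    obtain ⟨q, hq, hne⟩ := p.moves_r
    exact hne (hcC r h q hq)
  have hmapbot : ∀ {A : Subgroup X}, A ⊓ O = ⊥ →
      Nat.card ↥(A.map (QuotientGroup.mk' O)) = Nat.card ↥A := by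
    intro A hA
    refine (Nat.card_congr (Equiv.ofBijective
      (fun a : ↥A => (⟨QuotientGroup.mk' O a, a, a.2, rfl⟩ : ↥(A.map (QuotientGroup.mk' O))))
      ⟨fun a a' h => Subtype.ext ?_, fun ⟨_, a, ha, e⟩ => ⟨⟨a, ha⟩, Subtype.ext e⟩⟩)).symm
    have h' : (QuotientGroup.mk (a : X) : X ⧸ O) = QuotientGroup.mk (a' : X) :=
      congrArg Subtype.val h
    have : (a : X)⁻¹ * a' ∈ A ⊓ O :=
      Subgroup.mem_inf.2 ⟨mul_mem (inv_mem a.2) a'.2, QuotientGroup.eq.1 h'⟩
    rw [hA, Subgroup.mem_bot] at this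
    exact inv_mul_eq_one.1 this
  have hcardQ := hmapbot (A := Q) (by rw [inf_comm]; exact hbot)
  refine ⟨?_, hcardQ, fun c hc => ?_⟩
  · have hrel : C.relIndex K = 3 := by
      have hz : (N.map (QuotientGroup.mk' C)) = Subgroup.zpowers (QuotientGroup.mk' C r) := by
        rw [hN, Subgroup.map_sup, MonoidHom.map_zpowers,
          (Subgroup.map_eq_bot_iff _).2 (by rw [QuotientGroup.ker_mk']), bot_sup_eq]
      have hord : orderOf (QuotientGroup.mk' C r) = 3 := orderOf_eq_prime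
        (by rw [← map_pow]; exact (QuotientGroup.eq_one_iff _).2 hr3)
        (fun h => hrC ((QuotientGroup.eq_one_iff _).1 h))
      rw [Subgroup.relIndex, Subgroup.index_eq_card, hKN,
        ← hord, ← Nat.card_zpowers, ← hz]
      refine Nat.card_congr ((QuotientGroup.quotientMulEquivOfEq ?_).trans
        ((QuotientGroup.quotientKerEquivRange ((QuotientGroup.mk' C).comp N.subtype)).trans
          (MulEquiv.subgroupCongr ?_))).toEquiv
      · rw [← MonoidHom.comap_ker, QuotientGroup.ker_mk']; rfl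
      · rw [MonoidHom.range_comp, N.range_subtype]
    have hQO : O.relIndex C = Nat.card ↥Q := by
      rw [hC, Subgroup.relIndex_sup_right, ← Subgroup.inf_relIndex_right, hbot,
        Subgroup.relIndex_bot_left]
    have h1 := Subgroup.relIndex_mul_relIndex O C K le_sup_right hCK
    have h2 := Subgroup.relIndex_mul_index hOK
    rw [← Subgroup.index_eq_card, ← h2, ← h1, hQO, hrel, F.index_K]
    ring
  · obtain ⟨x, rfl⟩ := QuotientGroup.mk'_surjective O c
    have hxC : x ∈ C := hcentX x fun q hq => by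
      have h1 := hc _ ⟨q, hq, rfl⟩
      rw [← map_inv, ← map_mul, ← map_mul] at h1
      have h2 : (x * q * x⁻¹)⁻¹ * q ∈ O ⊓ Q :=
        Subgroup.mem_inf.2
          ⟨QuotientGroup.eq.1 h1, mul_mem (inv_mem (F.normal_Q.conj_mem q hq x)) hq⟩
      rw [hbot, Subgroup.mem_bot] at h2
      exact mul_inv_eq_iff_eq_mul.1 (inv_mul_eq_one.1 h2)
    obtain ⟨q, hq, v, hv, rfl⟩ := Subgroup.mem_sup_of_normal_left.1 hxC
    refine ⟨q, hq, ?_⟩
    rw [map_mul, show QuotientGroup.mk' O v = 1 from (QuotientGroup.eq_one_iff v).2 hv, mul_one]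

/-- `m = 3`. -/
theorem sym_four (F : Frame Q K n) {r t : X} (p : Pair Q K r t) (hQ : Nat.card ↥Q = 4)
    (hsq : ∀ q ∈ Q, q * q = 1) : Nonempty (X ⧸ oddCore X ≃* Equiv.Perm (Fin 4)) := by
  haveI := F.normal_Q
  haveI : (oddCore X).Normal := Thompson.instPPrimeCoreNormal
  obtain ⟨h1, h2, h3⟩ := F.quotient_facts p
  haveI := F.normal_Q.map (QuotientGroup.mk' (oddCore X)) (QuotientGroup.mk'_surjective _)
  refine nonempty_perm_four (by rw [h1, hQ]) _ (h2.trans hQ) ?_ h3
  rintro _ ⟨q, hq, rfl⟩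
  rw [← map_mul, hsq q hq, map_one]

/-- `m = 4`. -/
theorem sym_four_times_two (F : Frame Q K n) {r t z : X} (p : Pair Q K r t)
    (hQ : Nat.card ↥Q = 8) (hsq : ∀ q ∈ Q, q * q = 1) (hz : z ∈ Q) (hz1 : z * z = 1)
    (hzc : ∀ x, Commute z x) (τ : X →* Multiplicative (ZMod 2)) (hτ : τ z ≠ 1) :
    Nonempty (X ⧸ oddCore X ≃* Equiv.Perm (Fin 4) × Multiplicative (ZMod 2)) := by
  haveI : Fact (Nat.Prime 2) := ⟨Nat.prime_two⟩
  haveI := F.normal_Q
  haveI : (oddCore X).Normal := Thompson.instPPrimeCoreNormal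
  obtain ⟨h1, h2, h3⟩ := F.quotient_facts p
  set L := X ⧸ oddCore X
  set π := QuotientGroup.mk' (oddCore X) with hπ
  set Qb := Q.map π with hQb
  haveI hQbn : Qb.Normal := F.normal_Q.map π (QuotientGroup.mk'_surjective _)
  have hC2 : Nat.card (Multiplicative (ZMod 2)) = 2 := by simp
  have hτO : oddCore X ≤ τ.ker := fun v hv => by
    have hv' : v ^ Nat.card ↥(oddCore X) = 1 :=
      congrArg Subtype.val (pow_card_eq_one' (x := (⟨v, hv⟩ : ↥(oddCore X))))
    refine MonoidHom.mem_ker.2 (orderOf_eq_one_iff.1 (Nat.eq_one_of_dvd_coprimes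
      (Thompson.card_pPrimeCore_coprime (p := 2) (G := X)) (orderOf_dvd_of_pow_eq_one ?_)
      ((orderOf_dvd_natCard (τ v)).trans (dvd_of_eq hC2))))
    rw [← map_pow, hv', map_one]
  set σ : L →* Multiplicative (ZMod 2) := QuotientGroup.lift (oddCore X) τ hτO
  have hσz : σ (π z) ≠ 1 := hτ
  set M := σ.ker with hM
  have hsurj : Function.Surjective σ := by
    intro e
    rcases eq_or_ne e 1 with rfl | he
    · exact ⟨1, map_one σ⟩
    · exact ⟨π z, (Nat.card_eq_two_iff' (1 : Multiplicative (ZMod 2))).1 hC2 |>.unique hσz he⟩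
  have hMidx : M.index = 2 := by
    rw [hM, Subgroup.index_ker, MonoidHom.range_eq_top.2 hsurj, Subgroup.card_top, hC2]
  have hzb : π z ∈ Qb := ⟨z, hz, rfl⟩
  have hzb1 : π z * π z = 1 := by rw [← map_mul, hz1, map_one]
  have hzM : π z ∉ M := hσz
  have hcM : Nat.card ↥M = 24 := by
    have := M.card_mul_index
    rw [hMidx, h1, hQ] at this
    omega
  set V := Qb.subgroupOf M with hV
  have hcV : Nat.card ↥V = 4 := by
    have hr : (M.subgroupOf Qb).index = 2 := by
      refine Subgroup.index_eq_two_iff_exists_notMem_and.2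
        ⟨⟨π z, hzb⟩, hzM, fun a => ?_⟩
      by_cases ha : (a : L) ∈ M
      · exact Or.inr ha
      · exact Or.inl ((Subgroup.mul_mem_iff_of_index_two hMidx).2 (iff_of_false ha hzM))
    have := (M.subgroupOf Qb).card_mul_index
    rw [hr, hQb, h2, hQ, ← hQb] at this
    have e : Nat.card ↥V = Nat.card ↥(M.subgroupOf Qb) := Nat.card_congr
      { toFun := fun a => ⟨⟨a, a.2⟩, a.1.2⟩
        invFun := fun a => ⟨⟨a, a.2⟩, a.1.2⟩ }
    omega
  obtain ⟨e⟩ := nonempty_perm_four hcM V hcV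
    (by rintro ⟨_, _⟩ ⟨q, hq, rfl⟩
        exact Subtype.ext (show π q * π q = 1 by rw [← map_mul, hsq q hq, map_one]))
    (fun g hg => h3 (g : L) fun a ha => by
      by_cases haM : a ∈ M
      · exact congrArg Subtype.val (hg ⟨a, haM⟩ ha)
      · have ha' : a * π z ∈ M :=
          (Subgroup.mul_mem_iff_of_index_two hMidx).2 (iff_of_false haM hzM)
        have h4 : (g : L) * (a * π z) * (g : L)⁻¹ = a * π z :=
          congrArg Subtype.val (hg ⟨_, ha'⟩ (mul_mem ha hzb))
        obtain ⟨g', hg'⟩ := QuotientGroup.mk'_surjective (oddCore X) (g : L)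
        have hgz : Commute (π z) (g : L) := hg' ▸ (hzc g').map π
        refine mul_right_cancel (b := π z) ?_
        calc (g : L) * a * (g : L)⁻¹ * π z = (g : L) * a * ((g : L)⁻¹ * π z) := by group
          _ = (g : L) * a * (π z * (g : L)⁻¹) := by rw [hgz.inv_right.eq]
          _ = a * π z := by rw [← h4]; group)
  set Z := Subgroup.zpowers (π z) with hZ
  have hZc : Nat.card ↥Z = 2 := by
    rw [hZ, Nat.card_zpowers]
    exact orderOf_eq_prime (by rw [pow_two, hzb1]) fun h => hσz (by rw [h, map_one])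
  have hcomm : ∀ (a : ↥M) (c : ↥Z), Commute (M.subtype a) (Z.subtype c) := by
    rintro a ⟨c, hc⟩
    obtain ⟨j, rfl⟩ := Subgroup.mem_zpowers_iff.1 hc
    obtain ⟨x, hx⟩ := QuotientGroup.mk'_surjective (oddCore X) (a : L)
    show Commute (a : L) (π z ^ j)
    rw [← hx]
    exact (((hzc x).map π).zpow_left j).symm
  set f : ↥M × ↥Z →* L := M.subtype.noncommCoprod Z.subtype hcomm
  have hf : Function.Surjective f := by
    intro x
    by_cases hx : x ∈ M
    · exact ⟨(⟨x, hx⟩, 1), by simp [f]⟩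
    · refine ⟨(⟨x * π z, (Subgroup.mul_mem_iff_of_index_two hMidx).2 (iff_of_false hx hzM)⟩,
        ⟨π z, Subgroup.mem_zpowers _⟩), ?_⟩
      show x * π z * π z = x
      rw [mul_assoc, hzb1, mul_one]
  have hbij : Function.Bijective f := (Nat.bijective_iff_surjective_and_card f).2
    ⟨hf, by rw [Nat.card_prod, hcM, hZc, h1, hQ]⟩
  exact ⟨(MulEquiv.ofBijective f hbij).symm.trans
    (MulEquiv.prodCongr e (mulEquivOfPrimeCardEq (p := 2) hZc hC2))⟩

/-- `m = 2`. -/
theorem four (F : Frame Q K n) (hQ : Nat.card ↥Q = 2) (P : Subgroup X)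
    (hP : Nat.card ↥P = 4) (hsq : ∀ a ∈ P, a * a = 1) (hQP : Q ≤ P)
    (hinf : P ⊓ K ≤ Q) :
    Nonempty (X ⧸ oddCore X ≃* Multiplicative (ZMod 2) × Multiplicative (ZMod 2)) := by
  haveI : Fact (Nat.Prime 2) := ⟨Nat.prime_two⟩
  haveI := F.normal_Q
  haveI : (oddCore X).Normal := Thompson.instPPrimeCoreNormal
  obtain ⟨hOK, hOQ, hbot⟩ := F.oddCore_le
  obtain ⟨a, ha, hauniq⟩ := (Nat.card_eq_two_iff' (1 : ↥Q)).1 hQ
  have hcentral : ∀ (x : X), ∀ q ∈ Q, Commute x q := by
    intro x q hq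
    rcases eq_or_ne q 1 with rfl | hq1
    · exact Commute.one_right x
    have h1 : (⟨q, hq⟩ : ↥Q) = a := hauniq _ fun h => hq1 (congrArg Subtype.val h)
    have h2 : (⟨x * q * x⁻¹, F.normal_Q.conj_mem q hq x⟩ : ↥Q) = a := hauniq _ fun h =>
      hq1 (conj_eq_one_iff.1 (congrArg Subtype.val h))
    exact mul_inv_eq_iff_eq_mul.1 (congrArg Subtype.val (h2.trans h1.symm))
  set π := QuotientGroup.mk' (oddCore X)
  obtain ⟨t, ht, htK⟩ : ∃ t ∈ P, t ∉ K := by
    by_contra! hle
    have := Subgroup.card_le_of_le (fun x hx => hinf ⟨hx, hle x hx⟩ : P ≤ Q)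
    omega
  let f : ↥P →* X ⧸ oddCore X := π.comp P.subtype
  have hf : Function.Bijective f := by
    refine ⟨(injective_iff_map_eq_one f).2 fun x hx => Subtype.ext ?_, fun c => ?_⟩
    · have h1 : (x : X) ∈ oddCore X := (QuotientGroup.eq_one_iff _).1 hx
      have h2 : (x : X) ∈ oddCore X ⊓ Q := ⟨h1, hinf ⟨x.2, hOK h1⟩⟩
      rwa [hbot, Subgroup.mem_bot] at h2
    · obtain ⟨x, rfl⟩ := QuotientGroup.mk'_surjective _ c
      have key : ∀ y ∈ K, ∃ q : ↥P, f q = π y := by
        intro y hy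
        obtain ⟨q, hq, v, hv, rfl⟩ := Subgroup.mem_sup_of_normal_left.1
          (F.centralizer_le hy fun q hq => hcentral y q hq)
        refine ⟨⟨q, hQP hq⟩, ?_⟩
        show π q = π (q * v)
        rw [map_mul, show π v = 1 from (QuotientGroup.eq_one_iff v).2 hv, mul_one]
      by_cases hx : x ∈ K
      · exact key x hx
      · obtain ⟨q, hq⟩ := key (x * t)
          ((Subgroup.mul_mem_iff_of_index_two F.index_K).2 (iff_of_false hx htK))
        refine ⟨q * ⟨t, ht⟩, ?_⟩
        rw [map_mul, hq]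
        show π (x * t) * π t = π x
        rw [← map_mul, mul_assoc, hsq t ht, mul_one]
  haveI : Nontrivial ↥P := Finite.one_lt_card_iff_nontrivial.1 (by omega)
  haveI : IsKleinFour (Multiplicative (ZMod 2) × Multiplicative (ZMod 2)) :=
    ⟨by simp, (Monoid.exponent_eq_prime_iff Nat.prime_two).2 fun x hx =>
      orderOf_eq_prime (pow_two_four x) hx⟩
  haveI : IsKleinFour ↥P := ⟨hP, Monoid.exponent_eq_prime_iff Nat.prime_two |>.2 fun x hx => by
    exact orderOf_eq_prime (Subtype.ext (by rw [Subgroup.coe_pow, pow_two]; exact hsq x x.2)) hx⟩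
  obtain ⟨e⟩ := IsKleinFour.nonempty_mulEquiv (G₁ := ↥P)
    (G₂ := Multiplicative (ZMod 2) × Multiplicative (ZMod 2))
  exact ⟨(MulEquiv.ofBijective f hf).symm.trans e⟩

end Frame

end Cfsg.Agent.LocalEven61.DihedralPush
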