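import Cfsg.Agent.LocalEven61.DihedralPush.Cases
import Cfsg.Agent.LocalEven61.DihedralPush.Frame

/-!
From a dihedral quotient to a `Setup` and a `Frame`.
-/

set_option autoImplicit false
set_option linter.style.haveILetI false

open Cfsg

namespace Cfsg.Agent.LocalEven61.DihedralPush

theorem rot_pow {n : ℕ} (i : ZMod n) (k : ℕ) :
    (DihedralGroup.r i) ^ k = DihedralGroup.r ((k : ZMod n) * i) := by
  induction k with
  | zero => rw [pow_zero, Nat.cast_zero, zero_mul]; rfl
  | succ k ih =>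
    rw [pow_succ, ih, DihedralGroup.r_mul_r]
    congr 1
    push_cast
    ring

theorem sr_ne_r {n : ℕ} (i j : ZMod n) : DihedralGroup.sr i ≠ DihedralGroup.r j := by
  rintro ⟨⟩

/-- The rotations. -/
def rotations (n : ℕ) : Subgroup (DihedralGroup n) where
  carrier := {x | ∃ i, x = DihedralGroup.r i}
  one_mem' := ⟨0, DihedralGroup.one_def⟩
  mul_mem' := by rintro _ _ ⟨i, rfl⟩ ⟨j, rfl⟩; exact ⟨i + j, DihedralGroup.r_mul_r i j⟩
  inv_mem' := by rintro _ ⟨i, rfl⟩; exact ⟨-i, by rw [DihedralGroup.inv_r]⟩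

theorem rotations_index (n : ℕ) : (rotations n).index = 2 := by
  refine Subgroup.index_eq_two_iff_exists_notMem_and.2 ⟨DihedralGroup.sr 0, ?_, ?_⟩
  · rintro ⟨i, hi⟩; exact sr_ne_r _ _ hi
  · rintro (i | i)
    · exact Or.inr ⟨i, rfl⟩
    · exact Or.inl ⟨0 - i, DihedralGroup.sr_mul_sr i 0⟩

theorem odd_of_pCore_eq_bot {n : ℕ} (hn : 2 ≤ n) (h : pCore 2 (DihedralGroup n) = ⊥) : Odd n := by
  rcases Nat.even_or_odd n with ⟨k, hk⟩ | ho
  · exfalso
    haveI : NeZero n := ⟨by omega⟩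
    set z : DihedralGroup n := DihedralGroup.r (k : ZMod n) with hz
    have hk2 : (k : ZMod n) + k = 0 := by
      rw [← Nat.cast_add, ← hk, ZMod.natCast_self]
    have hz2 : z * z = 1 := by
      rw [hz, DihedralGroup.r_mul_r, hk2, DihedralGroup.one_def]
    have hc : z ∈ Subgroup.center (DihedralGroup n) := by
      refine Subgroup.mem_center_iff.2 ?_
      rintro (i | i)
      · rw [hz, DihedralGroup.r_mul_r, DihedralGroup.r_mul_r, add_comm]
      · rw [hz, DihedralGroup.sr_mul_r, DihedralGroup.r_mul_sr]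
        congr 1
        rw [sub_eq_add_neg, neg_eq_of_add_eq_zero_right hk2]
    haveI : (Subgroup.zpowers z).Normal := ⟨fun x hx g => by
      have hxc : x ∈ Subgroup.center (DihedralGroup n) := (Subgroup.zpowers_le.2 hc) hx
      rwa [Subgroup.mem_center_iff.1 hxc g, mul_inv_cancel_right]⟩
    have hp : IsPGroup 2 ↥(Subgroup.zpowers z) := by
      rintro ⟨x, hx⟩
      obtain ⟨j, rfl⟩ := Subgroup.mem_zpowers_iff.1 hx
      refine ⟨1, Subtype.ext ?_⟩
      show (z ^ j) ^ (2 ^ 1) = 1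
      rw [pow_one, ← zpow_natCast, ← zpow_mul, mul_comm, zpow_mul, zpow_natCast, pow_two, hz2,
        one_zpow]
    have hle := Thompson.le_pCore (p := 2) (inferInstance : (Subgroup.zpowers z).Normal) hp
    rw [h] at hle
    have hz1 : z = 1 := Subgroup.mem_bot.1 (hle (Subgroup.mem_zpowers z))
    rw [hz, DihedralGroup.one_def] at hz1
    have hk0 : (k : ZMod n) = 0 := by injection hz1
    rw [ZMod.natCast_eq_zero_iff] at hk0
    have := Nat.le_of_dvd (by omega) hk0
    omega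
  · exact ho

variable {G : Type*} [Group G] [Finite G]

/-- Everything extracted from the hypotheses about `H` and `P`. -/
theorem exists_setup (H : Subgroup G) (hO : Cfsg.pCore 2 ↥H ≠ ⊥) (n : ℕ) (hn : 2 ≤ n)
    (hdih : Nonempty (↥H ⧸ Cfsg.pCore 2 ↥H ≃* DihedralGroup n)) (P : Subgroup G) (hPH : P ≤ H)
    (hP : IsPGroup 2 P) (hPsyl : ¬ 2 ∣ P.relIndex H) (y : G)
    (hy2 : y ^ 2 ∈ P ⊔ Subgroup.centralizer (P : Set G))
    (hyN : ∀ z, y * z * y⁻¹ ∈ P ↔ z ∈ P)
    (hyQ : ∀ R : Subgroup G, R ≤ P → H ≤ Subgroup.normalizer (R : Set G) →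
      y ∈ Subgroup.normalizer (R : Set G) → R = ⊥) :
    ∃ (h : G) (K : Subgroup ↥H), Setup H P ((pCore 2 ↥H).map H.subtype) h y ∧
      (pCore 2 ↥H ≤ K ∧ K.Normal ∧ K.index = 2 ∧ P.subgroupOf H ⊓ K ≤ pCore 2 ↥H) ∧
      Odd n ∧ ∀ k ∈ K, k ^ n ∈ pCore 2 ↥H := by
  haveI : Fact (Nat.Prime 2) := ⟨Nat.prime_two⟩
  haveI : NeZero n := ⟨by omega⟩
  obtain ⟨e⟩ := hdih
  set Q0 := pCore 2 ↥H with hQ0
  haveI : Q0.Normal := Thompson.instPCoreNormal
  set π : ↥H →* DihedralGroup n := e.toMonoidHom.comp (QuotientGroup.mk' Q0) with hπ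
  have hsurj : Function.Surjective π :=
    e.surjective.comp (QuotientGroup.mk'_surjective Q0)
  have hker : ∀ x, π x = 1 ↔ x ∈ Q0 := fun x => by
    rw [hπ, MonoidHom.comp_apply, MulEquiv.coe_toMonoidHom, MulEquiv.map_eq_one_iff]
    exact QuotientGroup.eq_one_iff x
  have hkereq : π.ker = Q0 := SetLike.ext hker
  have hodd : Odd n := odd_of_pCore_eq_bot hn (by
    rw [← Thompson.map_pCore_equiv e, Thompson.pCore_quotient_pCore, Subgroup.map_bot])
  set P0 := P.subgroupOf H with hP0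
  have hP0p : IsPGroup 2 ↥P0 := hP.of_equiv (Subgroup.subgroupOfEquivOfLe hPH).symm
  set SP := hP0p.toSylow hPsyl
  have hQP0 : Q0 ≤ P0 := Thompson.pCore_le_sylow SP
  -- the image of `P`
  have hdvd : (P0.map π).index ∣ P0.index := Subgroup.index_map_dvd _ hsurj
  have hnot : ¬ 2 ∣ (P0.map π).index := fun h2 => hPsyl (h2.trans hdvd)
  have hcardim : Nat.card ↥(P0.map π) = 2 := by
    obtain ⟨k, hk⟩ := IsPGroup.iff_card.1 (hP0p.map π)
    have hmul := (P0.map π).card_mul_index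
    rw [DihedralGroup.nat_card, hk] at hmul
    obtain rfl | rfl | ⟨j, rfl⟩ : k = 0 ∨ k = 1 ∨ ∃ j, k = j + 2 := by
      rcases k with _ | _ | j <;> simp
    · rw [pow_zero, one_mul] at hmul
      exact absurd ⟨n, hmul⟩ hnot
    · exact hk
    · obtain ⟨i, hi⟩ := hodd
      have : n = 2 * (2 ^ j * (P0.map π).index) := by
        rw [pow_add] at hmul
        linarith
      omega
  obtain ⟨⟨s, hs⟩, hs1, huniq⟩ := (Nat.card_eq_two_iff' (1 : ↥(P0.map π))).1 hcardim
  have hs2 : s * s = 1 := by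
    have := congrArg Subtype.val (hcardim ▸ pow_card_eq_one' (x := (⟨s, hs⟩ : ↥(P0.map π))) :
      (⟨s, hs⟩ : ↥(P0.map π)) ^ 2 = 1)
    simpa [pow_two] using this
  obtain ⟨c, hc⟩ : ∃ c : ZMod n, (c : ZMod n) * 2 = 1 := by
    obtain ⟨i, hi⟩ := hodd
    refine ⟨((i + 1 : ℕ) : ZMod n), ?_⟩
    rw [← Nat.cast_two, ← Nat.cast_mul, show (i + 1) * 2 = n + 1 by omega, Nat.cast_add,
      ZMod.natCast_self, zero_add, Nat.cast_one]
  obtain ⟨i, rfl⟩ : ∃ i, s = DihedralGroup.sr i := by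
    rcases s with i | i
    · exfalso
      rw [DihedralGroup.r_mul_r, DihedralGroup.one_def] at hs2
      have h2 : i + i = 0 := by injection hs2
      refine hs1 (Subtype.ext ?_)
      show DihedralGroup.r i = 1
      rw [DihedralGroup.one_def]
      congr 1
      calc i = (c * 2) * i := by rw [hc, one_mul]
        _ = c * (i + i) := by ring
        _ = 0 := by rw [h2, mul_zero]
    · exact ⟨i, rfl⟩
  obtain ⟨h, hh⟩ := hsurj (DihedralGroup.r 1)
  set K := (rotations n).comap π with hK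
  have hQK : Q0 ≤ K := fun x hx => by
    show π x ∈ rotations n
    rw [(hker x).2 hx]
    exact one_mem _
  have hKidx : K.index = 2 := by
    rw [hK, Subgroup.index_comap_of_surjective _ hsurj, rotations_index]
  have hPK : P0 ⊓ K ≤ Q0 := fun x hx => by
    obtain ⟨j, hj⟩ := hx.2
    refine (hker x).1 ?_
    by_contra hne
    have := huniq ⟨π x, x, hx.1, rfl⟩ (fun h0 => hne (congrArg Subtype.val h0))
    exact sr_ne_r i j ((congrArg Subtype.val this).symm.trans hj)
  -- generation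
  set M := P0 ⊔ P0.map (MulAut.conj h).toMonoidHom with hM
  have hMmap : ∀ x, π x ∈ M.map π := by
    have hsr : DihedralGroup.sr i ∈ M.map π := by
      obtain ⟨p, hp, hpe⟩ := hs
      exact ⟨p, Subgroup.mem_sup_left hp, hpe⟩
    have hsr' : DihedralGroup.sr (i - 2) ∈ M.map π := by
      obtain ⟨p, hp, hpe⟩ := hs
      refine ⟨h * p * h⁻¹, Subgroup.mem_sup_right ⟨p, hp, rfl⟩, ?_⟩
      rw [map_mul, map_mul, map_inv, hh, hpe, DihedralGroup.r_mul_sr, DihedralGroup.inv_r,
        DihedralGroup.sr_mul_r]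
      congr 1
      ring
    have hr : ∀ j, DihedralGroup.r j ∈ M.map π := by
      intro j
      have h2 : DihedralGroup.r (2 : ZMod n) ∈ M.map π := by
        have := mul_mem hsr' hsr
        rwa [DihedralGroup.sr_mul_sr, sub_sub_cancel] at this
      have := pow_mem h2 (c * j).val
      rwa [rot_pow, ZMod.natCast_zmod_val, mul_right_comm, hc, one_mul] at this
    intro x
    rcases π x with j | j
    · exact hr j
    · have := mul_mem hsr (hr (j - i))
      rwa [DihedralGroup.sr_mul_r, add_sub_cancel] at this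
  have hMtop : M = ⊤ := by
    refine eq_top_iff.2 fun x _ => ?_
    obtain ⟨m, hm, hme⟩ := hMmap x
    have hle : Q0 ≤ M := hQP0.trans le_sup_left
    have : m⁻¹ * x ∈ Q0 := (hker _).1 (by rw [map_mul, map_inv, hme, inv_mul_cancel])
    simpa using mul_mem hm (hle this)
  have hgen : H ≤ P ⊔ P.map (MulAut.conj (h : G)).toMonoidHom := by
    intro x hx
    have hx' : (⟨x, hx⟩ : ↥H) ∈ M := hMtop ▸ Subgroup.mem_top _
    have hmap : M.map H.subtype ≤ P ⊔ P.map (MulAut.conj (h : G)).toMonoidHom := by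
      rw [hM, Subgroup.map_sup]
      refine sup_le_sup ?_ ?_
      · rintro _ ⟨z, hz, rfl⟩; exact hz
      · rintro _ ⟨_, ⟨z, hz, rfl⟩, rfl⟩
        exact ⟨z, hz, by simp⟩
    exact hmap ⟨_, hx', rfl⟩
  have hcardP : Nat.card P = 2 * Nat.card ↥(Q0.map H.subtype) := by
    have h1 : Nat.card ↥P0 = Nat.card ↥Q0 * Nat.card ↥(P0.map π) := by
      have := Subgroup.card_mul_index (Q0.subgroupOf P0)
      rw [Nat.card_congr (Subgroup.subgroupOfEquivOfLe hQP0).toEquiv] at this
      rw [← this]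
      congr 1
      rw [← hkereq, show π.ker.subgroupOf P0 = (π.comp P0.subtype).ker by
        rw [← MonoidHom.comap_ker]; rfl, Subgroup.index_ker, MonoidHom.range_comp,
        P0.range_subtype]
    rw [Nat.card_congr (Subgroup.subgroupOfEquivOfLe hPH).toEquiv, hcardim] at h1
    rw [h1, mul_comm, ← Nat.card_congr (Q0.equivMapOfInjective _ H.subtype_injective).toEquiv]
  refine ⟨h, K, ?_, ⟨hQK, ?_, hKidx, hPK⟩, hodd, fun k hk => ?_⟩
  · refine ⟨?_, hPH, fun u hu => ?_, ?_, hcardP, h.2, hgen, ?_, hyN, hy2, hyQ⟩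
    · rintro _ ⟨z, hz, rfl⟩; exact hQP0 hz
    · refine mem_normalizer_of_forall ?_
      rintro _ ⟨z, hz, rfl⟩
      exact ⟨⟨u, hu⟩ * z * ⟨u, hu⟩⁻¹, (inferInstance : Q0.Normal).conj_mem z hz _, by simp⟩
    · exact fun h0 => hO ((Subgroup.map_eq_bot_iff_of_injective _ H.subtype_injective).1 h0)
    · intro heq
      have h1 : (P.subgroupOf H).index = 1 := by
        rw [heq, Subgroup.subgroupOf_self, Subgroup.index_top]
      have hmul := (P0.map π).card_mul_index
      have : (P0.map π).index = 1 := Nat.dvd_one.1 (h1 ▸ hdvd)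
      rw [hcardim, this, DihedralGroup.nat_card] at hmul
      omega
  · exact (Subgroup.normal_of_index_eq_two (rotations_index n)).comap π
  · obtain ⟨j, hj⟩ := hk
    refine (hker _).1 ?_
    rw [map_pow, hj, rot_pow, ZMod.natCast_self, zero_mul, DihedralGroup.one_def]

end Cfsg.Agent.LocalEven61.DihedralPush
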