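import Cfsg.Agent.LocalEven61.DihedralPush.Window

/-!
The path of involutions `b i = φ^i x` attached to a `Setup`, and its windows.
-/

set_option autoImplicit false
set_option linter.style.haveILetI false

namespace Cfsg.Agent.LocalEven61.DihedralPush

variable {G : Type*} [Group G] [Finite G]

/-- The subgroup generated by the consecutive terms `b a, …, b (t - 1)`. -/
def window (b : ℤ → G) (a t : ℤ) : Subgroup G := Subgroup.closure (b '' Set.Ico a t)

omit [Finite G] in
theorem b_mem_window {b : ℤ → G} {a t i : ℤ} (ha : a ≤ i) (ht : i < t) : b i ∈ window b a t :=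
  Subgroup.subset_closure ⟨i, ⟨ha, ht⟩, rfl⟩

omit [Finite G] in
theorem window_le {b : ℤ → G} {a t : ℤ} {T : Subgroup G} :
    window b a t ≤ T ↔ ∀ i, a ≤ i → i < t → b i ∈ T := by
  refine (Subgroup.closure_le _).trans ⟨fun h i ha ht => h ⟨i, ⟨ha, ht⟩, rfl⟩, ?_⟩
  rintro h _ ⟨i, ⟨ha, ht⟩, rfl⟩
  exact h i ha ht

omit [Finite G] in
theorem window_mono {b : ℤ → G} {a t a' t' : ℤ} (ha : a' ≤ a) (ht : t ≤ t') :
    window b a t ≤ window b a' t' :=
  window_le.2 fun _ h1 h2 => b_mem_window (ha.trans h1) (lt_of_lt_of_le h2 ht)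

omit [Finite G] in
theorem commute_of_mem_window {b : ℤ → G} {a t : ℤ} {u z : G}
    (h : ∀ i, a ≤ i → i < t → Commute u (b i)) (hz : z ∈ window b a t) : Commute u z :=
  (Subgroup.mem_centralizer_singleton_iff.1
    ((window_le.2 fun i h1 h2 => Subgroup.mem_centralizer_singleton_iff.2 (h i h1 h2).symm.eq)
      hz : z ∈ Subgroup.centralizer {u})).symm

omit [Finite G] in
theorem window_self (b : ℤ → G) (a : ℤ) : window b a a = ⊥ := by
  simp [window]

omit [Finite G] in
theorem window_single (b : ℤ → G) (a : ℤ) :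
    window b a (a + 1) = Subgroup.closure {b a} := by
  rw [window, show Set.Ico a (a + 1) = {a} by ext; simp; omega, Set.image_singleton]

omit [Finite G] in
theorem zpow_chain_comm (φ : MulAut G) (i j : ℤ) (z : G) :
    (φ ^ i) ((φ ^ j) z) = (φ ^ (i + j)) z := by
  rw [zpow_add, MulAut.mul_apply]

/-- The data produced by a `Setup`. -/
structure Path (H P Q : Subgroup G) (h y : G) (m : ℕ) (b : ℤ → G) : Prop where
  setup : Setup H P Q h y
  two_le : 2 ≤ m
  shift_b : ∀ i j : ℤ, (shift h y ^ i) (b j) = b (i + j)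
  invol : ∀ i, b i * b i = 1
  ne_one : ∀ i, b i ≠ 1
  card_window : ∀ (a : ℤ) (k : ℕ), k ≤ m → Nat.card (window b a (a + k)) = 2 ^ k
  P_eq : window b 0 m = P
  Q_eq : window b 0 (m - 1) = Q
  H_eq : window b (-1) m = H

theorem Setup.exists_path {H P Q : Subgroup G} {h y : G} (S : Setup H P Q h y) :
    ∃ m b, Path H P Q h y m b := by
  classical
  set φ := shift h y with hφ
  set A := chain P φ with hA
  obtain ⟨m, hstop, hmin⟩ : ∃ m, A (m + 1) = A m ∧ ∀ j < m, A (j + 1) ≠ A j :=
    ⟨Nat.find S.exists_stop, Nat.find_spec S.exists_stop, fun j hj => Nat.find_min S.exists_stop hj⟩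
  have hA1 : A 1 = Q := S.chain_one
  have hQP : Nat.card Q < Nat.card P := by
    have := S.card_P
    have : 0 < Nat.card Q := Nat.card_pos
    omega
  have hm1 : 1 ≤ m := by
    by_contra hm
    obtain rfl : m = 0 := by omega
    rw [show A (0 + 1) = Q from hA1] at hstop
    have hP0 : A 0 = P := rfl
    rw [hP0] at hstop
    subst hstop
    omega
  have hcard : ∀ j < m, Nat.card (A j) = 2 * Nat.card (A (j + 1)) := by
    intro j hj
    have := (S.card_chain_le j).resolve_right (hmin j hj)
    rw [← hφ, ← hA] at this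
    omega
  obtain ⟨x, hx, hxm⟩ : ∃ x ∈ A (m - 1), x ∉ A m := by
    by_contra! hle
    refine hmin (m - 1) (by omega) ?_
    rw [show m - 1 + 1 = m by omega]
    exact le_antisymm (chain_le P φ (Nat.sub_le m 1)) hle
  set b : ℤ → G := fun i => (φ ^ i) x with hb
  have hshift : ∀ i j : ℤ, (φ ^ i) (b j) = b (i + j) := fun i j => zpow_chain_comm φ i j x
  have hbP : ∀ i : ℕ, i + 1 ≤ m → b i ∈ P := fun i hi => by
    simpa [hb] using mem_chain.1 hx i (by omega)
  have hbA : ∀ i k : ℕ, i + k + 1 ≤ m → b i ∈ A k := by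
    intro i k hik
    refine mem_chain.2 fun l hl => ?_
    rw [← zpow_natCast, hshift, ← Nat.cast_add]
    exact hbP (l + i) (by omega)
  have hbnA : ∀ i : ℕ, i + 1 ≤ m → b i ∉ A (m - i) := by
    intro i hi hmem
    have h1 := mem_chain.1 hmem (m - i) le_rfl
    rw [← zpow_natCast, hshift, ← Nat.cast_add, show m - i + i = m by omega] at h1
    refine hxm (mem_chain.2 fun l hl => ?_)
    rcases eq_or_lt_of_le hl with rfl | hlt
    · simpa [hb] using h1
    · simpa [hb] using hbP l (by omega)
  have hgen : ∀ (T : Subgroup G), A m ≤ T → ∀ k ≤ m, (∀ i : ℕ, i < k → b i ∈ T) →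
      A (m - k) ≤ T := by
    intro T hT k
    induction k with
    | zero => intro _ _; simpa using hT
    | succ k ih =>
      intro hk hbT z hz
      have hc := hcard (m - (k + 1)) (by omega)
      rw [show m - (k + 1) + 1 = m - k by omega] at hc
      have hle := ih (by omega) (fun i hi => hbT i (by omega))
      rcases mem_or_mul_mem (chain_le P φ (by omega)) hc (hbA k (m - (k + 1)) (by omega))
        (hbnA k (by omega)) hz with h1 | h1
      · exact hle h1
      · exact (mul_mem_cancel_right (hbT k (by omega))).1 (hle h1)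
  have hR : A m = ⊥ := by
    set R := A m with hRdef
    have hfix : ∀ z ∈ R, φ z ∈ R := fun z hz => (mem_chain_succ.1 (hstop.ge hz)).2
    have hg : h * y ∈ Subgroup.normalizer (R : Set G) := by
      refine inv_mem_iff.1 (mem_normalizer_of_forall fun z hz => ?_)
      simpa [hφ, shift_apply, mul_assoc] using hfix z hz
    have hx' : x ∈ Subgroup.normalizer (R : Set G) := by
      have hc := hcard (m - 1) (by omega)
      rw [show m - 1 + 1 = m by omega] at hc
      exact le_normalizer_of_card (chain_le P φ (Nat.sub_le m 1)) hc hx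
    have hinv : ∀ (i : ℤ), b i ∈ Subgroup.normalizer (R : Set G) := by
      intro i
      simp only [hb, hφ, shift, ← map_zpow, MulAut.conj_apply]
      exact mul_mem (mul_mem (zpow_mem (inv_mem hg) i) hx') (inv_mem (zpow_mem (inv_mem hg) i))
    have hPN : P ≤ Subgroup.normalizer (R : Set G) := by
      have := hgen _ Subgroup.le_normalizer m le_rfl (fun i _ => hinv i)
      simpa [hA, chain] using this
    have hP' : P.map (MulAut.conj h).toMonoidHom ≤ Subgroup.normalizer (R : Set G) := by
      rintro _ ⟨z, hz, rfl⟩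
      have h1 : y⁻¹ * z * y ∈ P := (S.norm_y _).1 (by simpa [mul_assoc] using hz)
      have h2 := mul_mem (mul_mem hg (hPN h1)) (inv_mem hg)
      simpa [mul_assoc] using h2
    have hHN : H ≤ Subgroup.normalizer (R : Set G) := S.gen.trans (sup_le hPN hP')
    have hy : y ∈ Subgroup.normalizer (R : Set G) := by
      simpa using mul_mem (inv_mem (hHN S.mem_H)) hg
    exact S.free R (chain_le P φ (Nat.zero_le m)) hHN hy
  have hcardA : ∀ k ≤ m, Nat.card (A (m - k)) = 2 ^ k := by
    intro k
    induction k with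
    | zero => intro; simp [hR]
    | succ k ih =>
      intro hk
      rw [hcard (m - (k + 1)) (by omega), show m - (k + 1) + 1 = m - k by omega, ih (by omega),
        pow_succ, mul_comm]
  have hx1 : x ≠ 1 := fun he => hxm (he ▸ one_mem _)
  have hxx : x * x = 1 := by
    have hc : Nat.card (A (m - 1)) = 2 := by simpa using hcardA 1 hm1
    have h1 : (⟨x, hx⟩ : A (m - 1)) ^ 2 = 1 := hc ▸ pow_card_eq_one'
    simpa [pow_two, Subtype.ext_iff] using h1
  have hwin : ∀ k ≤ m, window b 0 (0 + (k : ℕ)) = A (m - k) := by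
    intro k hk
    refine le_antisymm (window_le.2 fun i h0 hik => ?_)
      (hgen _ (by rw [hR]; exact bot_le) k hk fun i hi => b_mem_window (by omega) (by omega))
    obtain ⟨i, rfl⟩ : ∃ i' : ℕ, i = i' := ⟨i.toNat, by omega⟩
    exact hbA i (m - k) (by omega)
  have hmap : ∀ i a t : ℤ, (window b a t).map (φ ^ i).toMonoidHom = window b (i + a) (i + t) := by
    intro i a t
    rw [window, window, MonoidHom.map_closure, ← Set.image_comp,
      show Set.Ico (i + a) (i + t) = (fun j => i + j) '' Set.Ico a t by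
        rw [Set.image_const_add_Ico], ← Set.image_comp]
    exact congrArg Subgroup.closure (Set.image_congr fun j _ => hshift i j)
  have hP_eq : window b 0 m = P := by simpa [hA, chain] using hwin m le_rfl
  have hQ_eq : window b 0 ((m : ℤ) - 1) = Q := by
    have := hwin (m - 1) (by omega)
    rw [show m - (m - 1) = 1 by omega, hA1] at this
    simpa [Nat.cast_sub hm1] using this
  have hm2 : 2 ≤ m := by
    by_contra hm
    obtain rfl : m = 1 := by omega
    exact S.ne_bot (by rw [← hQ_eq]; simp [window_self])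
  have hPconj : P.map (MulAut.conj h).toMonoidHom = window b (-1) ((m : ℤ) - 1) := by
    have h1 := hmap (-1) 0 m
    rw [hP_eq, show (-1 : ℤ) + 0 = -1 by norm_num, show (-1 : ℤ) + m = m - 1 by ring] at h1
    rw [← h1]
    ext z
    have hinv : ∀ v : G, (φ ^ (-1 : ℤ)) v = h * y * v * (h * y)⁻¹ := fun v => by
      rw [hφ, shift, ← map_zpow]
      simp [mul_assoc]
    simp only [Subgroup.mem_map, MulEquiv.coe_toMonoidHom, hinv, MulAut.conj_apply]
    constructor
    · rintro ⟨u, hu, rfl⟩
      exact ⟨y⁻¹ * u * y, (S.norm_y _).1 (by simpa [mul_assoc] using hu), by group⟩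
    · rintro ⟨u, hu, rfl⟩
      exact ⟨y * u * y⁻¹, (S.norm_y u).2 hu, by group⟩
  refine ⟨m, b, S, hm2, hshift, fun i => ?_, fun i => ?_, ?_, hP_eq, hQ_eq, ?_⟩
  · simp only [hb]; rw [← map_mul, hxx, map_one]
  · simpa [hb] using hx1
  · intro a k hk
    rw [show window b a (a + k) = (window b 0 (0 + (k : ℕ))).map (φ ^ a).toMonoidHom by
      rw [hmap]; simp, ← hcardA k hk, ← hwin k hk]
    exact (Nat.card_congr (Subgroup.equivMapOfInjective _ _ (φ ^ a).injective).toEquiv).symm
  · refine le_antisymm ?_ (S.gen.trans (sup_le ?_ ?_))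
    · refine window_le.2 fun i hi hit => ?_
      by_cases hi0 : i = -1
      · have : b i ∈ P.map (MulAut.conj h).toMonoidHom :=
          hPconj ▸ b_mem_window (by omega) (by omega)
        obtain ⟨z, hz, hzi⟩ := this
        rw [← hzi]
        simpa using mul_mem (mul_mem S.mem_H (S.le_H hz)) (inv_mem S.mem_H)
      · exact S.le_H (hP_eq ▸ b_mem_window (by omega) hit)
    · exact hP_eq ▸ window_mono (by norm_num) le_rfl
    · exact hPconj ▸ window_mono le_rfl (by omega)

end Cfsg.Agent.LocalEven61.DihedralPush
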