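import Cfsg.Agent.LocalEven61.DihedralPush.Entry

/-!
The three shapes of `H / O(H)`.
-/

set_option autoImplicit false
set_option linter.style.haveILetI false

open Cfsg

namespace Cfsg.Agent.LocalEven61.DihedralPush

section Aux

variable {G : Type*} [Group G]

theorem zpow_cases {a : G} (ha : a * a = 1) (j : ℤ) : a ^ j = 1 ∨ a ^ j = a := by
  rcases Int.even_or_odd' j with ⟨i, rfl | rfl⟩
  · left; rw [zpow_mul, zpow_ofNat, pow_two, ha, one_zpow]
  · right; rw [zpow_add, zpow_mul, zpow_ofNat, pow_two, ha, one_zpow, one_mul, zpow_one]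

theorem commute_of_odd {R q : G} {n : ℕ} (hn : Odd n) (h1 : Commute (R ^ n) q)
    (h4 : Commute (R ^ 4) q) : Commute R q := by
  obtain ⟨i, rfl⟩ := hn
  rcases Nat.even_or_odd' i with ⟨k, rfl | rfl⟩
  · have h := ((h4.pow_left k).inv_left).mul_left h1
    rwa [← pow_mul, show 2 * (2 * k) + 1 = 4 * k + 1 by ring, pow_succ, inv_mul_cancel_left] at h
  · have h := h1.inv_left.mul_left (h4.pow_left (k + 1))
    rwa [← pow_mul, show 4 * (k + 1) = 2 * (2 * k + 1) + 1 + 1 by ring,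
      pow_succ R (2 * (2 * k + 1) + 1), inv_mul_cancel_left] at h

/-- A homomorphism from a subgroup of index two. -/
theorem exists_sign (U : Subgroup G) (hU : U.index = 2) :
    ∃ χ : G →* Multiplicative (ZMod 2), ∀ g, g ∉ U → χ g ≠ 1 := by
  classical
  refine ⟨MonoidHom.mk' (fun g => if g ∈ U then 1 else Multiplicative.ofAdd 1) fun a c => ?_,
    fun g hg => ?_⟩
  · have := Subgroup.mul_mem_iff_of_index_two hU (a := a) (b := c)
    by_cases ha : a ∈ U <;> by_cases hc : c ∈ U <;> simp [ha, hc, this] <;> decide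
  · simp [hg]

theorem conj_right_of_rel {a c z : G} (ha : a * a = 1) (hz : a * c * (a * c) = z) :
    c * a * c = a * z := by
  rw [← hz, show a * (a * c * (a * c)) = (a * a) * (c * (a * c)) by group, ha, one_mul, mul_assoc]

theorem conj_left_of_rel {a c z : G} (hc : c * c = 1) (hz : a * c * (a * c) = z) :
    a * c * a = z * c := by
  rw [← hz, show a * c * (a * c) * c = a * c * a * (c * c) by group, hc, mul_one]

theorem conj_three {R a b' c : G} (h1 : R * a * R⁻¹ = b') (h2 : R * b' * R⁻¹ = c)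
    (h3 : R * c * R⁻¹ = a) : Commute (R ^ 3) a :=
  mul_inv_eq_iff_eq_mul.1 (show R ^ 3 * a * (R ^ 3)⁻¹ = a by
    rw [show R ^ 3 * a * (R ^ 3)⁻¹ = R * (R * (R * a * R⁻¹) * R⁻¹) * R⁻¹ by
      simp only [pow_succ, pow_zero, one_mul]; group, h1, h2, h3])

theorem commute_four {R a : G} {c : G} (h2 : R * (R * a * R⁻¹) * R⁻¹ = a * c)
    (hc : R * c * R⁻¹ = c) (hcc : c * c = 1) : Commute (R ^ 4) a :=
  mul_inv_eq_iff_eq_mul.1 (show R ^ 4 * a * (R ^ 4)⁻¹ = a by
    rw [show R ^ 4 * a * (R ^ 4)⁻¹ = R * (R * (R * (R * a * R⁻¹) * R⁻¹) * R⁻¹) * R⁻¹ by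
      simp only [pow_succ, pow_zero, one_mul]; group, h2,
      show R * (R * (a * c) * R⁻¹) * R⁻¹ = (R * (R * a * R⁻¹) * R⁻¹) * (R * (R * c * R⁻¹) * R⁻¹)
        by group, h2, hc, hc, mul_assoc, hcc, mul_one])

end Aux

variable {G : Type*} [Group G] [Finite G] {H P Q : Subgroup G} {h y : G} {m : ℕ} {b : ℤ → G}
  {K : Subgroup ↥H} {n : ℕ}

namespace Path

/-- The side conditions on `K`. -/
structure Side (H P : Subgroup G) (K : Subgroup ↥H) (n : ℕ) : Prop where
  le_K : pCore 2 ↥H ≤ K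
  normal_K : K.Normal
  index_K : K.index = 2
  inf_K : P.subgroupOf H ⊓ K ≤ pCore 2 ↥H
  odd : Odd n
  pow : ∀ k ∈ K, k ^ n ∈ pCore 2 ↥H

theorem mem_H (p : Path H P Q h y m b) {i : ℤ} (h1 : -1 ≤ i) (h2 : i < m) : b i ∈ H :=
  p.H_eq.le (b_mem_window h1 h2)

theorem mem_core (p : Path H P ((pCore 2 ↥H).map H.subtype) h y m b) {x : ↥H} :
    x ∈ pCore 2 ↥H ↔ (x : G) ∈ window b 0 ((m : ℤ) - 1) := by
  rw [p.Q_eq]
  exact (Subgroup.mem_map_iff_mem H.subtype_injective).symm

theorem card_core (p : Path H P ((pCore 2 ↥H).map H.subtype) h y m b) :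
    Nat.card ↥(pCore 2 ↥H) = 2 ^ (m - 1) := by
  have hm := p.two_le
  rw [← p.card_window 0 (m - 1) (Nat.sub_le m 1),
    show (0 : ℤ) + ((m - 1 : ℕ) : ℤ) = m - 1 by omega, p.Q_eq]
  exact Nat.card_congr ((pCore 2 ↥H).equivMapOfInjective _ H.subtype_injective).toEquiv

theorem frame (p : Path H P ((pCore 2 ↥H).map H.subtype) h y m b) (s : Side H P K n)
    (hc : ∀ i j : ℤ, 0 ≤ i → i < (m : ℤ) - 1 → 0 ≤ j → j < (m : ℤ) - 1 → Commute (b i) (b j)) :
    Frame (pCore 2 ↥H) K n ∧ ∀ q ∈ pCore 2 ↥H, q * q = 1 := by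
  haveI : Fact (Nat.Prime 2) := ⟨Nat.prime_two⟩
  refine ⟨⟨Thompson.instPCoreNormal, s.normal_K, s.le_K, s.index_K, Thompson.isPGroup_pCore,
    fun a ha c hc' => Subtype.ext ?_, s.odd, s.pow⟩, fun q hq => Subtype.ext ?_⟩
  · exact (commute_window hc (p.mem_core.1 ha) (p.mem_core.1 hc')).eq
  · exact sq_window hc p.invol (p.mem_core.1 hq)

theorem pair_basic (p : Path H P ((pCore 2 ↥H).map H.subtype) h y m b) (s : Side H P K n) :
    ∃ r t : ↥H, r ∈ K ∧ t ∉ K ∧ (t : G) = b ((m : ℤ) - 1) ∧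
      (r : G) = b (-1) * b ((m : ℤ) - 1) ∧ t * r * t⁻¹ = r⁻¹ ∧ t * t = 1 ∧
      Subgroup.closure ({r, t} ∪ (pCore 2 ↥H : Set ↥H)) = ⊤ := by
  have hm := p.two_le
  set u : ↥H := ⟨b (-1), p.mem_H le_rfl (by omega)⟩ with hu
  set t : ↥H := ⟨b ((m : ℤ) - 1), p.mem_H (by omega) (by omega)⟩ with ht
  haveI := s.normal_K
  have htP : (t : G) ∈ P := p.P_eq.le (b_mem_window (by omega) (by omega))
  have htK : t ∉ K := fun hk =>
    p.right_not_mem (a := 0) (t := (m : ℤ) - 1) (by omega) (by omega)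
      (p.mem_core.1 (s.inf_K ⟨htP, hk⟩))
  have huK : u ∉ K := fun hk => by
    set hh : ↥H := ⟨h, p.setup.mem_H⟩
    have hφ : b (-1) = h * (y * b 0 * y⁻¹) * h⁻¹ := by
      have := p.shift_b (-1) 0
      rw [add_zero] at this
      rw [← this, shift, ← map_zpow]
      simp [mul_assoc]
    have hp' : y * b 0 * y⁻¹ ∈ P :=
      (p.setup.norm_y _).2 (p.P_eq.le (b_mem_window le_rfl (by omega)))
    have hpK : (⟨y * b 0 * y⁻¹, p.setup.le_H hp'⟩ : ↥H) ∈ K := by
      have h1 := s.normal_K.conj_mem u hk hh⁻¹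
      have e : hh⁻¹ * u * hh⁻¹⁻¹ = ⟨y * b 0 * y⁻¹, p.setup.le_H hp'⟩ := Subtype.ext (by
        show h⁻¹ * b (-1) * h⁻¹⁻¹ = y * b 0 * y⁻¹
        rw [hφ]; group)
      rwa [e] at h1
    have hcore := s.inf_K ⟨hp', hpK⟩
    have hu' := Thompson.instPCoreNormal.conj_mem _ hcore hh
    have e : hh * ⟨y * b 0 * y⁻¹, p.setup.le_H hp'⟩ * hh⁻¹ = u := Subtype.ext hφ.symm
    rw [e] at hu'
    exact p.left_not_mem (a := -1) (t := (m : ℤ) - 1) (by omega) (by omega)
      (window_mono (by omega) le_rfl (p.mem_core.1 hu'))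
  have htt : t * t = 1 := Subtype.ext (p.invol _)
  have huu : u * u = 1 := Subtype.ext (p.invol _)
  refine ⟨u * t, t, (Subgroup.mul_mem_iff_of_index_two s.index_K).2 (iff_of_false huK htK), htK,
    rfl, rfl, ?_, htt, ?_⟩
  · rw [mul_inv_rev, show t * (u * t) * t⁻¹ = t * u by group,
      inv_eq_of_mul_eq_one_right htt, inv_eq_of_mul_eq_one_right huu]
  · set S := Subgroup.closure ({u * t, t} ∪ (pCore 2 ↥H : Set ↥H))
    have htS : t ∈ S := Subgroup.subset_closure (Or.inl (Or.inr rfl))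
    have huS : u ∈ S := by
      have h1 : u * t ∈ S := Subgroup.subset_closure (Or.inl (Or.inl rfl))
      simpa using mul_mem h1 (inv_mem htS)
    refine eq_top_iff.2 fun x _ => ?_
    have hle : window b (-1) m ≤ S.map H.subtype := window_le.2 fun i h1 h2 => by
      rcases (show i = -1 ∨ (0 ≤ i ∧ i < (m : ℤ) - 1) ∨ i = (m : ℤ) - 1 by omega) with
        rfl | ⟨h3, h4⟩ | rfl
      · exact ⟨u, huS, rfl⟩
      · obtain ⟨q, hq, he⟩ := p.Q_eq.le (b_mem_window (b := b) h3 h4)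
        exact ⟨q, Subgroup.subset_closure (Or.inr hq), he⟩
      · exact ⟨t, htS, rfl⟩
    exact (Subgroup.mem_map_iff_mem H.subtype_injective).1 (hle (p.H_eq.ge x.2))

theorem pair_of_rel (p : Path H P ((pCore 2 ↥H).map H.subtype) h y m b) (s : Side H P K n)
    (hcube : ∀ i : ℤ, 0 ≤ i → i < (m : ℤ) - 1 →
      Commute ((b (-1) * b ((m : ℤ) - 1)) ^ 3) (b i))
    (hr0 : ¬ Commute (b (-1) * b ((m : ℤ) - 1)) (b 0))
    (ht0 : ¬ Commute (b ((m : ℤ) - 1)) (b 0)) :
    ∃ r t : ↥H, Frame.Pair (pCore 2 ↥H) K r t := by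
  have hm := p.two_le
  obtain ⟨r, t, hrK, htK, ht, hr, hinv, htt, hgen⟩ := p.pair_basic s
  have hq0 : (⟨b 0, p.mem_H (by omega) (by omega)⟩ : ↥H) ∈ pCore 2 ↥H :=
    p.mem_core.2 (b_mem_window le_rfl (by omega))
  refine ⟨r, t, hrK, htK, hinv, htt, fun q hq => Subtype.ext ?_, ⟨_, hq0, fun hc => hr0 ?_⟩,
    ⟨_, hq0, fun hc => ht0 ?_⟩, hgen⟩
  · simp only [Subgroup.coe_mul, Subgroup.coe_pow, hr]
    exact (commute_of_mem_window hcube (p.mem_core.1 hq)).eq
  · rw [← hr]; exact hc.map H.subtype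
  · rw [← ht]; exact hc.map H.subtype

theorem shape_two (p : Path H P ((pCore 2 ↥H).map H.subtype) h y 2 b) (s : Side H P K n)
    (hc : ∀ i : ℤ, Commute (b i) (b (i + 1))) :
    Nonempty (↥H ⧸ oddCore ↥H ≃* Multiplicative (ZMod 2) × Multiplicative (ZMod 2)) := by
  obtain ⟨F, -⟩ := p.frame s fun i j h1 h2 h3 h4 => by
    obtain rfl : i = j := by omega
    exact Commute.refl _
  have hP : window b 0 2 = P := by simpa using p.P_eq
  refine F.four (by simpa using p.card_core) (P.subgroupOf H) ?_ ?_ ?_ s.inf_K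
  · rw [Nat.card_congr (Subgroup.subgroupOfEquivOfLe p.setup.le_H).toEquiv, ← hP]
    simpa using p.card_window 0 2 le_rfl
  · intro a ha
    refine Subtype.ext (sq_window ?_ p.invol (hP.ge ha))
    intro i j h1 h2 h3 h4
    rcases (show i = j ∨ (i = 0 ∧ j = 1) ∨ (i = 1 ∧ j = 0) by omega) with
      rfl | ⟨rfl, rfl⟩ | ⟨rfl, rfl⟩
    · exact Commute.refl _
    · simpa using hc 0
    · simpa using (hc 0).symm
  · intro q hq
    exact p.setup.le_P ⟨q, hq, rfl⟩

theorem shape_three (p : Path H P ((pCore 2 ↥H).map H.subtype) h y 3 b) (s : Side H P K n)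
    (hc : ∀ i j : ℤ, j < i + 2 → i < j + 2 → Commute (b i) (b j))
    (hrel : ∀ i : ℤ, b i * b (i + 2) * (b i * b (i + 2)) = b (i + 1)) :
    Nonempty (↥H ⧸ oddCore ↥H ≃* Equiv.Perm (Fin 4)) := by
  obtain ⟨F, hsq⟩ := p.frame s fun i j h1 h2 h3 h4 => hc i j (by omega) (by omega)
  have e1 : b 2 * b 0 * b 2 = b 0 * b 1 := conj_right_of_rel (p.invol 0) (by simpa using hrel 0)
  have e2 : b (-1) * b 1 * b (-1) = b 0 * b 1 :=
    conj_left_of_rel (p.invol 1) (by simpa using hrel (-1))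
  have e3 : b 2 * b 1 * b 2 = b 1 := by
    rw [(hc 2 1 (by norm_num) (by norm_num)).eq, mul_assoc, p.invol, mul_one]
  have e4 : b (-1) * b 0 * b (-1) = b 0 := by
    rw [(hc (-1) 0 (by norm_num) (by norm_num)).eq, mul_assoc, p.invol, mul_one]
  set R := b (-1) * b 2 with hR
  have hRc : ∀ z, R * z * R⁻¹ = b (-1) * (b 2 * z * b 2) * b (-1) := fun z => by
    rw [hR, mul_inv_rev, p.inv_b, p.inv_b]; group
  have c01 : Commute (b 0) (b 1) := hc 0 1 (by norm_num) (by norm_num)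
  have r0 : R * b 0 * R⁻¹ = b 1 := by
    calc R * b 0 * R⁻¹ = b (-1) * (b 0 * b 1) * b (-1) := by rw [hRc, e1]
      _ = (b (-1) * b 0 * (b (-1))⁻¹) * (b (-1) * b 1 * b (-1)) := by group
      _ = b 1 := by rw [p.inv_b, e4, e2, ← mul_assoc, p.invol, one_mul]
  have r1 : R * b 1 * R⁻¹ = b 0 * b 1 := by rw [hRc, e3, e2]
  have r2 : R * (b 0 * b 1) * R⁻¹ = b 0 := by
    rw [show R * (b 0 * b 1) * R⁻¹ = (R * b 0 * R⁻¹) * (R * b 1 * R⁻¹) by group, r0, r1, c01.eq,
      ← mul_assoc, p.invol, one_mul]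
  obtain ⟨r, t, pr⟩ : ∃ r t : ↥H, Frame.Pair (pCore 2 ↥H) K r t := by
    refine p.pair_of_rel s (fun i h1 h2 => ?_) (fun h0 => ?_) (fun h0 => ?_)
    · norm_num at h2 ⊢
      rw [← hR]
      rcases (show i = 0 ∨ i = 1 by omega) with rfl | rfl
      · exact conj_three r0 r1 r2
      · exact conj_three r1 r2 r0
    · norm_num at h0
      rw [← hR] at h0
      have : b 0 = b 1 := by rw [← r0, h0.eq, mul_inv_cancel_right]
      exact p.left_not_mem (a := 0) (t := 2) (by norm_num) (by norm_num)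
        (this ▸ b_mem_window (by norm_num) (by norm_num))
    · norm_num at h0
      rw [h0.eq, mul_assoc, p.invol, mul_one] at e1
      exact p.ne_one 1 (mul_eq_left.1 e1.symm)
  exact F.sym_four pr (by simpa using p.card_core) hsq

theorem not_rel_left (p : Path H P ((pCore 2 ↥H).map H.subtype) h y 4 b) (s : Side H P K n)
    (hc : ∀ i j : ℤ, j < i + 3 → i < j + 3 → Commute (b i) (b j))
    (hrel : ∀ i : ℤ, b i * b (i + 3) * (b i * b (i + 3)) = b (i + 1)) : False := by
  obtain ⟨r, t, hrK, -, -, hr, -, -, -⟩ := p.pair_basic s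
  norm_num at hr
  have hn : Commute ((r : G) ^ n) (b 0) := by
    rw [← Subgroup.coe_pow]
    exact commute_of_mem_window (a := 0) (t := 3)
      (fun i h1 h2 => hc 0 i (by omega) (by omega)) (by simpa using p.mem_core.1 (s.pow r hrK))
      |>.symm
  rw [hr] at hn
  set R := b (-1) * b 3 with hR
  have hfix : ∀ i j : ℤ, j < i + 3 → i < j + 3 → b i * b j * b i = b j := fun i j h1 h2 => by
    rw [(hc i j h1 h2).eq, mul_assoc, p.invol, mul_one]
  have e1 : b 3 * b 0 * b 3 = b 0 * b 1 := conj_right_of_rel (p.invol 0) (by simpa using hrel 0)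
  have hRc : ∀ z, R * z * R⁻¹ = b (-1) * (b 3 * z * b 3) * b (-1) := fun z => by
    rw [hR, mul_inv_rev, p.inv_b, p.inv_b]; group
  have r1 : R * b 1 * R⁻¹ = b 1 := by
    rw [hRc, hfix 3 1 (by norm_num) (by norm_num), hfix (-1) 1 (by norm_num) (by norm_num)]
  have r0 : R * b 0 * R⁻¹ = b 0 * b 1 := by
    calc R * b 0 * R⁻¹ = b (-1) * (b 0 * b 1) * b (-1) := by rw [hRc, e1]
      _ = (b (-1) * b 0 * (b (-1))⁻¹) * (b (-1) * b 1 * b (-1)) := by group
      _ = b 0 * b 1 := by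
        rw [p.inv_b, hfix (-1) 0 (by norm_num) (by norm_num),
          hfix (-1) 1 (by norm_num) (by norm_num)]
  have h4 : Commute (R ^ 4) (b 0) := commute_four (c := 1)
    (by rw [r0, show R * (b 0 * b 1) * R⁻¹ = (R * b 0 * R⁻¹) * (R * b 1 * R⁻¹) by group, r0, r1,
      mul_assoc, p.invol]) (by group) (one_mul 1)
  have h0 := commute_of_odd s.odd hn h4
  rw [h0.eq, mul_inv_cancel_right] at r0
  exact p.ne_one 1 (mul_eq_left.1 r0.symm)

theorem not_rel_right (p : Path H P ((pCore 2 ↥H).map H.subtype) h y 4 b) (s : Side H P K n)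
    (hc : ∀ i j : ℤ, j < i + 3 → i < j + 3 → Commute (b i) (b j))
    (hrel : ∀ i : ℤ, b i * b (i + 3) * (b i * b (i + 3)) = b (i + 2)) : False := by
  obtain ⟨r, t, hrK, -, -, hr, -, -, -⟩ := p.pair_basic s
  norm_num at hr
  have hn : Commute ((r : G) ^ n) (b 2) := by
    rw [← Subgroup.coe_pow]
    exact commute_of_mem_window (a := 0) (t := 3)
      (fun i h1 h2 => hc 2 i (by omega) (by omega)) (by simpa using p.mem_core.1 (s.pow r hrK))
      |>.symm
  rw [hr] at hn
  set R := b (-1) * b 3 with hR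
  have hfix : ∀ i j : ℤ, j < i + 3 → i < j + 3 → b i * b j * b i = b j := fun i j h1 h2 => by
    rw [(hc i j h1 h2).eq, mul_assoc, p.invol, mul_one]
  have e2 : b (-1) * b 2 * b (-1) = b 1 * b 2 :=
    conj_left_of_rel (p.invol 2) (by simpa using hrel (-1))
  have hRc : ∀ z, R * z * R⁻¹ = b (-1) * (b 3 * z * b 3) * b (-1) := fun z => by
    rw [hR, mul_inv_rev, p.inv_b, p.inv_b]; group
  have r1 : R * b 1 * R⁻¹ = b 1 := by
    rw [hRc, hfix 3 1 (by norm_num) (by norm_num), hfix (-1) 1 (by norm_num) (by norm_num)]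
  have r2 : R * b 2 * R⁻¹ = b 1 * b 2 := by
    rw [hRc, hfix 3 2 (by norm_num) (by norm_num), e2]
  have h4 : Commute (R ^ 4) (b 2) := commute_four (c := 1)
    (by rw [r2, show R * (b 1 * b 2) * R⁻¹ = (R * b 1 * R⁻¹) * (R * b 2 * R⁻¹) by group, r2, r1,
      ← mul_assoc, p.invol, one_mul, mul_one]) (by group) (one_mul 1)
  have h2 := commute_of_odd s.odd hn h4
  rw [h2.eq, mul_inv_cancel_right] at r2
  exact p.ne_one 1 (mul_eq_right.1 r2.symm)

theorem exists_complement_hom (p : Path H P ((pCore 2 ↥H).map H.subtype) h y 4 b)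
    (hidx : ¬ 2 ∣ P.relIndex H)
    (hc : ∀ i j : ℤ, j < i + 3 → i < j + 3 → Commute (b i) (b j))
    (hrel : ∀ i : ℤ, b i * b (i + 3) * (b i * b (i + 3)) = b (i + 1) * b (i + 2)) :
    ∃ z : ↥H, z ∈ pCore 2 ↥H ∧ z * z = 1 ∧ (∀ x, Commute z x) ∧
      ∃ τ : ↥H →* Multiplicative (ZMod 2), τ z ≠ 1 := by
  have hP : window b 0 4 = P := by simpa using p.P_eq
  set a := b 0 * b 1
  set c := b 1 * b 2
  have hA : ∀ i, 0 ≤ i → i < 3 → ∀ j, 0 ≤ j → j < 3 → Commute (b i) (b j) :=
    fun i _ _ j _ _ => hc i j (by omega) (by omega)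
  have hAc : ∀ i j : ℤ, 0 ≤ i → i < 3 → 0 ≤ j → j < 3 → Commute (b i) (b j) :=
    fun i j h1 h2 h3 h4 => hA i h1 h2 j h3 h4
  have haW : a ∈ window b 0 3 :=
    mul_mem (b_mem_window le_rfl (by norm_num)) (b_mem_window (by norm_num) (by norm_num))
  have hcW : c ∈ window b 0 3 :=
    mul_mem (b_mem_window (by norm_num) (by norm_num)) (b_mem_window (by norm_num) (by norm_num))
  have haa : a * a = 1 := sq_window hAc p.invol haW
  have hcc : c * c = 1 := sq_window hAc p.invol hcW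
  have hac : Commute a c := commute_window hAc haW hcW
  set V := Subgroup.zpowers a ⊔ Subgroup.zpowers c
  have hVW : V ≤ window b 0 3 :=
    sup_le (Subgroup.zpowers_le.2 haW) (Subgroup.zpowers_le.2 hcW)
  have hVmem : ∀ v ∈ V, v = 1 ∨ v = a ∨ v = c ∨ v = a * c := by
    have hle : Subgroup.zpowers c ≤ Subgroup.normalizer (Subgroup.zpowers a : Set G) := by
      intro x hx
      refine mem_normalizer_of_forall fun v hv => ?_
      obtain ⟨i, rfl⟩ := Subgroup.mem_zpowers_iff.1 hv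
      obtain ⟨j, rfl⟩ := Subgroup.mem_zpowers_iff.1 hx
      rw [((hac.zpow_left i).zpow_right j).symm.eq, mul_inv_cancel_right]
      exact hv
    intro v hv
    rw [← SetLike.mem_coe,
      Subgroup.coe_mul_of_right_le_normalizer_left (Subgroup.zpowers a) (Subgroup.zpowers c) hle] at hv
    obtain ⟨_, ⟨i, rfl⟩, _, ⟨j, rfl⟩, rfl⟩ := Set.mem_mul.1 hv
    rcases zpow_cases haa i with e | e <;> rcases zpow_cases hcc j with e' | e' <;>
      simp only [e, e'] <;> simp
  have hfix : ∀ i j : ℤ, j < i + 3 → i < j + 3 → b i * b j * b i = b j := fun i j h1 h2 => by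
    rw [(hc i j h1 h2).eq, mul_assoc, p.invol, mul_one]
  have e1 : b 3 * b 0 * b 3 = b 0 * (b 1 * b 2) :=
    conj_right_of_rel (p.invol 0) (by simpa using hrel 0)
  have h3a : b 3 * a * b 3 = a * c := by
    calc b 3 * a * b 3 = (b 3 * b 0 * (b 3)⁻¹) * (b 3 * b 1 * b 3) := by
          simp only [a]; group
      _ = b 0 * c * b 1 := by rw [p.inv_b, e1, hfix 3 1 (by norm_num) (by norm_num)]
      _ = a * c := by
        rw [mul_assoc, commute_window hAc hcW (b_mem_window (by norm_num) (by norm_num)) |>.eq,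
          ← mul_assoc]
  have h3c : b 3 * c * b 3 = c := by
    calc b 3 * c * b 3 = (b 3 * b 1 * (b 3)⁻¹) * (b 3 * b 2 * b 3) := by
          simp only [c]; group
      _ = c := by
        rw [p.inv_b, hfix 3 1 (by norm_num) (by norm_num), hfix 3 2 (by norm_num) (by norm_num)]
  have h3V : Subgroup.zpowers (b 3) ≤ Subgroup.normalizer (V : Set G) := by
    rw [Subgroup.zpowers_le]
    refine mem_normalizer_of_forall fun v hv => ?_
    have hle : V ≤ V.comap (MulAut.conj (b 3)).toMonoidHom := by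
      refine sup_le (Subgroup.zpowers_le.2 ?_) (Subgroup.zpowers_le.2 ?_)
      · show b 3 * a * (b 3)⁻¹ ∈ V
        rw [p.inv_b, h3a]
        exact mul_mem (Subgroup.mem_sup_left (Subgroup.mem_zpowers a))
          (Subgroup.mem_sup_right (Subgroup.mem_zpowers c))
      · show b 3 * c * (b 3)⁻¹ ∈ V
        rw [p.inv_b, h3c]
        exact Subgroup.mem_sup_right (Subgroup.mem_zpowers c)
    exact hle hv
  set U := V ⊔ Subgroup.zpowers (b 3)
  have hb1U : b 1 ∉ U := by
    intro hU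
    rw [← SetLike.mem_coe, Subgroup.coe_mul_of_right_le_normalizer_left V (Subgroup.zpowers (b 3)) h3V] at hU
    obtain ⟨v, hv, _, ⟨j, rfl⟩, he⟩ := Set.mem_mul.1 hU
    rcases zpow_cases (p.invol 3) j with e | e <;> simp only [e] at he
    · rw [mul_one] at he
      have h0 : b 0 ∉ window b 1 3 := p.left_not_mem (a := 0) (by norm_num) (by norm_num)
      rcases hVmem v hv with rfl | rfl | rfl | rfl
      · exact p.ne_one 1 he.symm
      · exact p.ne_one 0 (mul_eq_right.1 he)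
      · exact p.ne_one 2 (mul_eq_left.1 he)
      · apply h0
        have : b 0 = b 1 * (b 2)⁻¹ := by
          rw [← he, show a * c * (b 2)⁻¹ = b 0 * (b 1 * b 1) * (b 2 * (b 2)⁻¹) by
            simp only [a, c]; group, p.invol, mul_inv_cancel, mul_one, mul_one]
        rw [this]
        exact mul_mem (b_mem_window le_rfl (by norm_num))
          (inv_mem (b_mem_window (by norm_num) (by norm_num)))
    · refine p.right_not_mem (a := 0) (t := 3) (by norm_num) (by norm_num) ?_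
      rw [show b 3 = v⁻¹ * b 1 by rw [← he, inv_mul_cancel_left]]
      exact mul_mem (inv_mem (hVW hv)) (b_mem_window (by norm_num) (by norm_num))
  set P0 := P.subgroupOf H with hP0
  have hb1P : b 1 ∈ P := hP.le (b_mem_window (by norm_num) (by norm_num))
  set z : ↥H := ⟨b 1, p.setup.le_H hb1P⟩ with hz
  have hzc : ∀ x : ↥H, Commute z x := fun x => Subtype.ext
    (commute_of_mem_window (u := b 1) (fun i h1 h2 => hc 1 i (by omega) (by omega))
      (p.H_eq.ge x.2)).eq
  have hzz : z * z = 1 := Subtype.ext (p.invol 1)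
  set U0 := (U.subgroupOf H).subgroupOf P0
  have hU0 : U0.index = 2 := by
    refine Subgroup.index_eq_two_iff_exists_notMem_and.2 ⟨⟨z, hb1P⟩, hb1U, fun x => ?_⟩
    have hcomP : ∀ g ∈ P, Commute (b 1) g := fun g hg =>
      congrArg Subtype.val (hzc ⟨g, p.setup.le_H hg⟩).eq
    let T : Subgroup G :=
      { carrier := {g | g ∈ P ∧ (g * b 1 ∈ U ∨ g ∈ U)}
        one_mem' := ⟨one_mem _, Or.inr (one_mem _)⟩
        mul_mem' := by
          rintro g k ⟨hg, hg'⟩ ⟨hk, hk'⟩
          refine ⟨mul_mem hg hk, ?_⟩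
          rcases hg' with hg' | hg' <;> rcases hk' with hk' | hk'
          · right
            have := mul_mem hg' hk'
            rwa [show g * b 1 * (k * b 1) = g * (b 1 * k) * b 1 by group, (hcomP k hk).eq,
              show g * (k * b 1) * b 1 = g * k * (b 1 * b 1) by group, p.invol, mul_one] at this
          · left
            have := mul_mem hg' hk'
            rwa [show g * b 1 * k = g * (b 1 * k) by group, (hcomP k hk).eq, ← mul_assoc] at this
          · left
            have := mul_mem hg' hk'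
            rwa [← mul_assoc] at this
          · exact Or.inr (mul_mem hg' hk')
        inv_mem' := by
          rintro g ⟨hg, hg'⟩
          refine ⟨inv_mem hg, hg'.imp (fun h1 => ?_) inv_mem⟩
          have := inv_mem h1
          rwa [mul_inv_rev, p.inv_b, (hcomP _ (inv_mem hg)).eq] at this }
    have hle : window b 0 4 ≤ T := window_le.2 fun i h1 h2 => by
      refine ⟨hP.le (b_mem_window h1 h2), ?_⟩
      rcases (show i = 0 ∨ i = 1 ∨ i = 2 ∨ i = 3 by omega) with rfl | rfl | rfl | rfl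
      · exact Or.inl (Subgroup.mem_sup_left (Subgroup.mem_sup_left (Subgroup.mem_zpowers a)))
      · exact Or.inl (by rw [p.invol]; exact one_mem _)
      · exact Or.inl (by
          rw [(hc 2 1 (by norm_num) (by norm_num)).eq]
          exact Subgroup.mem_sup_left (Subgroup.mem_sup_right (Subgroup.mem_zpowers c)))
      · exact Or.inr (Subgroup.mem_sup_right (Subgroup.mem_zpowers (b 3)))
    exact (hle (hP.ge x.2)).2
  obtain ⟨χ, hχ⟩ := exists_sign U0 hU0
  refine ⟨z, p.mem_core.2 (b_mem_window (by norm_num) (by norm_num)), hzz, hzc,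
    MonoidHom.transfer χ, ?_⟩
  rw [MonoidHom.transfer_eq_pow χ z (fun k g₀ _ => by
    rw [mul_assoc, ((hzc g₀).pow_left k).eq, inv_mul_cancel_left])]
  have hodd : Odd P0.index := Nat.odd_iff.2 (Nat.two_dvd_ne_zero.1 hidx)
  obtain ⟨j, hj⟩ := hodd
  have hpow : z ^ P0.index = z := by
    rw [hj, pow_succ, pow_mul, pow_two, hzz, one_pow, one_mul]
  have he : (⟨z ^ P0.index, by rw [hpow]; exact hb1P⟩ : ↥P0) = ⟨z, hb1P⟩ := Subtype.ext hpow
  rw [show χ _ = χ ⟨z, hb1P⟩ from congrArg χ he]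
  exact hχ _ hb1U

theorem shape_four (p : Path H P ((pCore 2 ↥H).map H.subtype) h y 4 b) (s : Side H P K n)
    (hidx : ¬ 2 ∣ P.relIndex H)
    (hc : ∀ i j : ℤ, j < i + 3 → i < j + 3 → Commute (b i) (b j))
    (hrel : ∀ i : ℤ, b i * b (i + 3) * (b i * b (i + 3)) = b (i + 1) * b (i + 2)) :
    Nonempty (↥H ⧸ oddCore ↥H ≃* Equiv.Perm (Fin 4) × Multiplicative (ZMod 2)) := by
  obtain ⟨F, hsq⟩ := p.frame s fun i j h1 h2 h3 h4 => hc i j (by omega) (by omega)
  have hfix : ∀ i j : ℤ, j < i + 3 → i < j + 3 → b i * b j * b i = b j := fun i j h1 h2 => by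
    rw [(hc i j h1 h2).eq, mul_assoc, p.invol, mul_one]
  have e1 : b 3 * b 0 * b 3 = b 0 * (b 1 * b 2) :=
    conj_right_of_rel (p.invol 0) (by simpa using hrel 0)
  have e2 : b (-1) * b 2 * b (-1) = b 0 * b 1 * b 2 :=
    conj_left_of_rel (p.invol 2) (by simpa using hrel (-1))
  set R := b (-1) * b 3 with hR
  have hRc : ∀ z, R * z * R⁻¹ = b (-1) * (b 3 * z * b 3) * b (-1) := fun z => by
    rw [hR, mul_inv_rev, p.inv_b, p.inv_b]; group
  have c01 : Commute (b 0) (b 1) := hc 0 1 (by norm_num) (by norm_num)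
  have r1 : R * b 1 * R⁻¹ = b 1 := by
    rw [hRc, hfix 3 1 (by norm_num) (by norm_num), hfix (-1) 1 (by norm_num) (by norm_num)]
  have r0 : R * b 0 * R⁻¹ = b 2 := by
    calc R * b 0 * R⁻¹ = b (-1) * (b 0 * (b 1 * b 2)) * b (-1) := by rw [hRc, e1]
      _ = (b (-1) * b 0 * (b (-1))⁻¹) * (b (-1) * b 1 * (b (-1))⁻¹) *
          (b (-1) * b 2 * b (-1)) := by group
      _ = (b 0 * b 1) * (b 0 * b 1 * b 2) := by
        rw [p.inv_b, hfix (-1) 0 (by norm_num) (by norm_num),
          hfix (-1) 1 (by norm_num) (by norm_num), e2]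
      _ = b 2 := by
        rw [← mul_assoc, show b 0 * b 1 * (b 0 * b 1) = b 0 * (b 1 * b 0) * b 1 by group,
          c01.symm.eq, show b 0 * (b 0 * b 1) * b 1 = b 0 * b 0 * (b 1 * b 1) by group,
          p.invol, p.invol, one_mul, one_mul]
  have r2 : R * b 2 * R⁻¹ = b 0 * b 1 * b 2 := by
    rw [hRc, hfix 3 2 (by norm_num) (by norm_num), e2]
  have r3 : R * (b 0 * b 1 * b 2) * R⁻¹ = b 0 := by
    calc R * (b 0 * b 1 * b 2) * R⁻¹
        = (R * b 0 * R⁻¹) * (R * b 1 * R⁻¹) * (R * b 2 * R⁻¹) := by group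
      _ = b 2 * b 1 * (b 0 * b 1 * b 2) := by rw [r0, r1, r2]
      _ = b 0 := by
        rw [c01.eq, show b 2 * b 1 * (b 1 * b 0 * b 2) = b 2 * (b 1 * b 1) * (b 0 * b 2) by group,
          p.invol, mul_one, ← mul_assoc, hfix 2 0 (by norm_num) (by norm_num)]
  obtain ⟨r, t, pr⟩ : ∃ r t : ↥H, Frame.Pair (pCore 2 ↥H) K r t := by
    refine p.pair_of_rel s (fun i h1 h2 => ?_) (fun h0 => ?_) (fun h0 => ?_)
    · norm_num at h2 ⊢
      rw [← hR]
      rcases (show i = 0 ∨ i = 1 ∨ i = 2 by omega) with rfl | rfl | rfl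
      · exact conj_three r0 r2 r3
      · exact conj_three r1 r1 r1
      · exact conj_three r2 r3 r0
    · norm_num at h0
      rw [← hR] at h0
      have : b 0 = b 2 := by rw [← r0, h0.eq, mul_inv_cancel_right]
      exact p.left_not_mem (a := 0) (t := 3) (by norm_num) (by norm_num)
        (this ▸ b_mem_window (by norm_num) (by norm_num))
    · norm_num at h0
      rw [h0.eq, mul_assoc, p.invol, mul_one] at e1
      have h12 : b 1 = b 2 := by
        rw [eq_inv_of_mul_eq_one_left (mul_eq_left.1 e1.symm), p.inv_b]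
      exact p.left_not_mem (a := 1) (t := 3) (by norm_num) (by norm_num)
        (h12 ▸ b_mem_window (by norm_num) (by norm_num))
  obtain ⟨z, hz, hz1, hzc, τ, hτ⟩ := p.exists_complement_hom hidx hc hrel
  exact F.sym_four_times_two pr (by simpa using p.card_core) hsq hz hz1 hzc τ hτ

end Path

end Cfsg.Agent.LocalEven61.DihedralPush
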