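import Mathlib

/-!
Tutte's window argument for a subgroup `H` with dihedral quotient `H/Q` and an element `y`
normalizing a Sylow `2`-subgroup `P` of `H` but no normal subgroup of `H` inside `P`:
`P` has order `4`, `8` or `16`.
-/

set_option autoImplicit false
set_option linter.style.haveILetI false

open Pointwise

namespace Cfsg.Agent.LocalEven61.DihedralPush

variable {G : Type*} [Group G] [Finite G]

/-- The hypotheses. -/
structure Setup (H P Q : Subgroup G) (h y : G) : Prop where
  le_P : Q ≤ P
  le_H : P ≤ H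
  normal_Q : H ≤ Subgroup.normalizer (Q : Set G)
  ne_bot : Q ≠ ⊥
  card_P : Nat.card P = 2 * Nat.card Q
  mem_H : h ∈ H
  gen : H ≤ P ⊔ P.map (MulAut.conj h).toMonoidHom
  ne_H : P ≠ H
  norm_y : ∀ z, y * z * y⁻¹ ∈ P ↔ z ∈ P
  sq_y : y ^ 2 ∈ P ⊔ Subgroup.centralizer (P : Set G)
  free : ∀ R : Subgroup G, R ≤ P → H ≤ Subgroup.normalizer (R : Set G) →
    y ∈ Subgroup.normalizer (R : Set G) → R = ⊥

/-- Conjugation by `(hy)⁻¹`. -/
def shift (h y : G) : MulAut G := MulAut.conj (h * y)⁻¹

theorem shift_apply (h y z : G) : shift h y z = (h * y)⁻¹ * z * (h * y) := by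
  simp [shift, mul_assoc]

/-- Stabilizers of paths. -/
def chain (P : Subgroup G) (φ : MulAut G) : ℕ → Subgroup G
  | 0 => P
  | j + 1 => P ⊓ (chain P φ j).comap φ.toMonoidHom

omit [Finite G] in
theorem mem_chain_succ {P : Subgroup G} {φ : MulAut G} {j : ℕ} {z : G} :
    z ∈ chain P φ (j + 1) ↔ z ∈ P ∧ φ z ∈ chain P φ j := Iff.rfl

omit [Finite G] in
theorem mem_chain {P : Subgroup G} {φ : MulAut G} {j : ℕ} {z : G} :
    z ∈ chain P φ j ↔ ∀ i ≤ j, (φ ^ i) z ∈ P := by
  induction j generalizing z with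
  | zero =>
    constructor
    · intro hz i hi
      obtain rfl : i = 0 := by omega
      simpa [chain] using hz
    · intro hz
      simpa [chain] using hz 0 le_rfl
  | succ j ih =>
    rw [mem_chain_succ, ih]
    constructor
    · rintro ⟨h0, h1⟩ (_ | i) hi
      · simpa using h0
      · simpa [pow_succ] using h1 i (by omega)
    · exact fun hz => ⟨by simpa using hz 0 (by omega),
        fun i hi => by simpa [pow_succ] using hz (i + 1) (by omega)⟩

omit [Finite G] in
theorem chain_le (P : Subgroup G) (φ : MulAut G) {i j : ℕ} (hij : i ≤ j) :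
    chain P φ j ≤ chain P φ i := fun _ hz =>
  mem_chain.2 fun k hk => mem_chain.1 hz k (hk.trans hij)

omit [Finite G] in
theorem conj_mem_iff_of_mem_normalizer {S : Subgroup G} {u : G}
    (hu : u ∈ Subgroup.normalizer (S : Set G)) (z : G) : u * z * u⁻¹ ∈ S ↔ z ∈ S :=
  (Subgroup.mem_normalizer_iff.1 hu z).symm

theorem mem_normalizer_of_forall {S : Subgroup G} {u : G} (hu : ∀ z ∈ S, u * z * u⁻¹ ∈ S) :
    u ∈ Subgroup.normalizer (S : Set G) := by
  haveI : Finite ↥S := inferInstance
  have hle : S.map (MulAut.conj u).toMonoidHom ≤ S := by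
    rintro _ ⟨z, hz, rfl⟩
    simpa using hu z hz
  have heq : S.map (MulAut.conj u).toMonoidHom = S := Subgroup.eq_of_le_of_card_ge hle
    (le_of_eq (Nat.card_congr (S.equivMapOfInjective _ (MulAut.conj u).injective).toEquiv))
  refine Subgroup.mem_normalizer_iff.2 fun z => ⟨hu z, fun hz => ?_⟩
  obtain ⟨z', hz', he⟩ := heq.ge hz
  have : z' = z := (MulAut.conj u).injective (by simpa using he)
  exact this ▸ hz'

/-- A subgroup of index two: cosets. -/
theorem mem_or_mul_mem {A B : Subgroup G} (hAB : A ≤ B) (hc : Nat.card B = 2 * Nat.card A)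
    {u : G} (huB : u ∈ B) (huA : u ∉ A) {z : G} (hz : z ∈ B) : z ∈ A ∨ z * u ∈ A := by
  have hidx : (A.subgroupOf B).index = 2 := by
    have h := Subgroup.card_mul_index (A.subgroupOf B)
    rw [Nat.card_congr (Subgroup.subgroupOfEquivOfLe hAB).toEquiv, hc,
      mul_comm 2] at h
    exact Nat.eq_of_mul_eq_mul_left Nat.card_pos h
  by_cases hzA : z ∈ A
  · exact Or.inl hzA
  · refine Or.inr ?_
    have := (Subgroup.mul_mem_iff_of_index_two hidx (a := ⟨z, hz⟩) (b := ⟨u, huB⟩))
    simp only [Subgroup.mem_subgroupOf, Subgroup.coe_mul] at this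
    exact this.2 (iff_of_false hzA huA)

omit [Finite G] in
theorem relIndex_mul_card {A B : Subgroup G} (hAB : A ≤ B) :
    A.relIndex B * Nat.card A = Nat.card B := by
  rw [Subgroup.relIndex, mul_comm, ← Nat.card_congr (Subgroup.subgroupOfEquivOfLe hAB).toEquiv,
    Subgroup.card_mul_index]

theorem le_normalizer_of_card {A B : Subgroup G} (hAB : A ≤ B)
    (hc : Nat.card B = 2 * Nat.card A) : B ≤ Subgroup.normalizer (A : Set G) := by
  refine (Subgroup.normal_subgroupOf_iff_le_normalizer hAB).1 (Subgroup.normal_of_index_eq_two ?_)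
  have h := Subgroup.card_mul_index (A.subgroupOf B)
  rw [Nat.card_congr (Subgroup.subgroupOfEquivOfLe hAB).toEquiv, hc, mul_comm 2] at h
  exact Nat.eq_of_mul_eq_mul_left Nat.card_pos h

namespace Setup

variable {H P Q : Subgroup G} {h y : G}

theorem shift_mem_P_iff (S : Setup H P Q h y) (z : G) :
    shift h y z ∈ P ↔ h⁻¹ * z * h ∈ P := by
  rw [shift_apply, ← S.norm_y]
  exact Iff.of_eq (congrArg (· ∈ P) (by group))

theorem chain_one (S : Setup H P Q h y) : chain P (shift h y) 1 = Q := by
  have hle : Q ≤ chain P (shift h y) 1 := by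
    intro z hz
    refine mem_chain_succ.2 ⟨S.le_P hz, ?_⟩
    show shift h y z ∈ P
    rw [S.shift_mem_P_iff]
    have := (conj_mem_iff_of_mem_normalizer (inv_mem (S.normal_Q S.mem_H)) z).2 hz
    exact S.le_P (by simpa using this)
  have hP : chain P (shift h y) 1 ≤ P := chain_le P _ (Nat.zero_le 1)
  by_contra hne
  have hlt : Nat.card Q < Nat.card (chain P (shift h y) 1) := by
    refine lt_of_le_of_ne (Subgroup.card_le_of_le hle) fun he => hne ?_
    exact (Subgroup.eq_of_le_of_card_ge hle he.ge).symm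
  have hd := Subgroup.card_dvd_of_le hP
  have hd' := Subgroup.card_dvd_of_le hle
  obtain ⟨c, hc⟩ := hd'
  rw [S.card_P, hc, mul_comm 2] at hd
  have hc2 : c ∣ 2 := Nat.dvd_of_mul_dvd_mul_left Nat.card_pos hd
  have : c = 2 := by
    rcases (Nat.dvd_prime Nat.prime_two).1 hc2 with h1 | h1
    · subst h1; omega
    · exact h1
  have heq : chain P (shift h y) 1 = P := Subgroup.eq_of_le_of_card_ge hP
    (by rw [S.card_P, hc, this]; omega)
  have hmap : P.map (MulAut.conj h).toMonoidHom ≤ P := by
    have hfix : ∀ z ∈ P, h⁻¹ * z * h ∈ P := fun z hz =>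
      (S.shift_mem_P_iff z).1 (mem_chain_succ.1 (heq.ge hz)).2
    have hN : h⁻¹ ∈ Subgroup.normalizer (P : Set G) :=
      mem_normalizer_of_forall fun z hz => by simpa using hfix z hz
    rintro _ ⟨z, hz, rfl⟩
    simpa using (conj_mem_iff_of_mem_normalizer (inv_mem hN) z).2 hz
  exact S.ne_H (le_antisymm S.le_H (S.gen.trans (sup_le le_rfl hmap)))

/-- Steps of the chain have index at most two. -/
theorem card_chain_le (S : Setup H P Q h y) (j : ℕ) :
    Nat.card (chain P (shift h y) (j + 1)) * 2 = Nat.card (chain P (shift h y) j) ∨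
      chain P (shift h y) (j + 1) = chain P (shift h y) j := by
  set φ := shift h y
  have hle : ∀ i, chain P φ (i + 1) ≤ chain P φ i := fun i => chain_le P φ (Nat.le_succ i)
  have hrel : ∀ i, (chain P φ (i + 1)).relIndex (chain P φ i) ≤ 2 := by
    intro i
    induction i with
    | zero =>
      rw [show chain P φ (0 + 1) = Q from S.chain_one, show chain P φ 0 = P from rfl]
      refine le_of_eq (Nat.eq_of_mul_eq_mul_left (Nat.card_pos (α := Q)) ?_)
      rw [Subgroup.relIndex, ← Nat.card_congr (Subgroup.subgroupOfEquivOfLe S.le_P).toEquiv,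
        Subgroup.card_mul_index, S.card_P, Nat.card_congr
          (Subgroup.subgroupOfEquivOfLe S.le_P).toEquiv, mul_comm]
    | succ i ih =>
      show (P ⊓ (chain P φ (i + 1)).comap φ.toMonoidHom).relIndex (chain P φ (i + 1)) ≤ 2
      have h1 : chain P φ (i + 1) ≤ P := chain_le P φ (Nat.zero_le _)
      rw [← Subgroup.inf_relIndex_right, inf_right_comm, inf_of_le_right h1,
        inf_comm, Subgroup.inf_relIndex_right, Subgroup.relIndex_comap]
      refine le_trans (Subgroup.relIndex_le_of_le_right ?_ ?_) ih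
      · rintro _ ⟨z, hz, rfl⟩
        exact (mem_chain_succ.1 hz).2
      · exact Subgroup.index_ne_zero_of_finite
  have hmul := relIndex_mul_card (hle j)
  have hpos : (chain P φ (j + 1)).relIndex (chain P φ j) ≠ 0 := fun h0 => by
    rw [h0, zero_mul] at hmul
    exact (Nat.card_pos (α := chain P φ j)).ne hmul
  have := hrel j
  rcases (show (chain P φ (j + 1)).relIndex (chain P φ j) = 2 ∨
      (chain P φ (j + 1)).relIndex (chain P φ j) = 1 by omega) with h2 | h1
  · left; rw [← hmul, h2, mul_comm]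
  · right; exact Subgroup.eq_of_le_of_card_ge (hle j) (by rw [← hmul, h1, one_mul])

theorem exists_stop (S : Setup H P Q h y) :
    ∃ j, chain P (shift h y) (j + 1) = chain P (shift h y) j := by
  by_contra! hne
  have key : ∀ j, Nat.card (chain P (shift h y) j) * 2 ^ j = Nat.card P := by
    intro j
    induction j with
    | zero => simp [chain]
    | succ j ih =>
      rw [← ih, ← (S.card_chain_le j).resolve_right (hne j), pow_succ]
      ring
  have h1 := key (Nat.card P)
  have h2 : Nat.card P < 2 ^ Nat.card P := Nat.lt_two_pow_self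
  have h3 : 1 ≤ Nat.card (chain P (shift h y) (Nat.card P)) := Nat.card_pos
  nlinarith

end Setup

end Cfsg.Agent.LocalEven61.DihedralPush
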